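import Mathlib.Algebra.Group.Subgroup.Pointwise
import Mathlib.GroupTheory.Sylow
import Mathlib.Order.Atoms

/-!
Subgroups minimal over a given subgroup `B`: the atoms of the interval above it, with the separation
property of minimal parabolic subgroups.
-/

set_option autoImplicit false

namespace Cfsg.Agent.Lib.PMinLie

open Pointwise

variable {K K' : Type*} [Group K] [Group K']

/-- `𝒜` behaves like the set of minimal parabolic subgroups over the Borel subgroup `B`. -/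
structure Atoms (B : Subgroup K) (𝒜 : Set (Subgroup K)) : Prop where
  above : ∀ A ∈ 𝒜, B < A
  atom : ∀ M, B < M → ∃ A ∈ 𝒜, A ≤ M
  gen : sSup 𝒜 = ⊤
  sep : ∀ A ∈ 𝒜, ∃ P, P ≠ ⊤ ∧ ∀ A' ∈ 𝒜, A' ≠ A → A' ≤ P

/-- An automorphism fixing `B` maps `A` to `A'`. -/
def Twins (B A A' : Subgroup K) : Prop := ∃ α : MulAut K, α • B = B ∧ α • A = A'

namespace Atoms

variable {B : Subgroup K} {𝒜 𝒜' : Set (Subgroup K)}

theorem eq_of_le (h : Atoms B 𝒜) {A A' : Subgroup K} (hA : A ∈ 𝒜) (hA' : A' ∈ 𝒜) (hle : A' ≤ A) :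
    A' = A := by
  by_contra hne
  obtain ⟨P, hP, hall⟩ := h.sep A' hA'
  refine hP (eq_top_iff.2 (h.gen ▸ sSup_le fun C hC => ?_))
  by_cases hC' : C = A'
  · exact hC' ▸ hle.trans (hall A hA (Ne.symm hne))
  · exact hall C hC hC'

theorem mem_of_unique (h : Atoms B 𝒜) (h' : Atoms B 𝒜') {A : Subgroup K} (hA : A ∈ 𝒜) : A ∈ 𝒜' := by
  obtain ⟨A', hA', hle⟩ := h'.atom A (h.above A hA)
  obtain ⟨A'', hA'', hle'⟩ := h.atom A' (h'.above A' hA')
  have e := h.eq_of_le hA hA'' (hle'.trans hle)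
  exact (le_antisymm hle (e ▸ hle')) ▸ hA'

theorem unique (h : Atoms B 𝒜) (h' : Atoms B 𝒜') : 𝒜 = 𝒜' :=
  Set.Subset.antisymm (fun _ => h.mem_of_unique h') fun _ => h'.mem_of_unique h

theorem nonempty [Nontrivial K] (h : Atoms B 𝒜) : 𝒜.Nonempty := by
  rcases 𝒜.eq_empty_or_nonempty with rfl | hne
  · exact absurd ((sSup_empty (α := Subgroup K)).symm.trans h.gen) bot_ne_top
  · exact hne

theorem ne_top [Nontrivial K] (h : Atoms B 𝒜) : B ≠ ⊤ := by
  obtain ⟨A, hA⟩ := h.nonempty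
  exact fun e => not_top_lt (e ▸ h.above A hA)

/-- Two atoms generate more than each of them. -/
theorem not_le (h : Atoms B 𝒜) {A A' : Subgroup K} (hA : A ∈ 𝒜) (hA' : A' ∈ 𝒜) (hne : A' ≠ A) :
    ¬ A' ≤ A := fun hle => hne (h.eq_of_le hA hA' hle)

/-- Transport along a surjection whose kernel lies in `B`. -/
theorem map (h : Atoms B 𝒜) {π : K →* K'} (hπ : Function.Surjective π) (hker : π.ker ≤ B) :
    Atoms (B.map π) ((Subgroup.map π) '' 𝒜) := by
  have hcm : ∀ M : Subgroup K, B ≤ M → (M.map π).comap π = M := fun M hM => by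
    rw [Subgroup.comap_map_eq, sup_eq_left.2 (hker.trans hM)]
  refine ⟨?_, fun M hM => ?_, ?_, ?_⟩
  · rintro _ ⟨A, hA, rfl⟩
    refine lt_of_le_of_ne (Subgroup.map_mono (h.above A hA).le) fun e => (h.above A hA).ne ?_
    rw [← hcm B le_rfl, e, hcm A (h.above A hA).le]
  · obtain ⟨A, hA, hle⟩ := h.atom (M.comap π) (by
      refine lt_of_le_of_ne (Subgroup.map_le_iff_le_comap.1 hM.le) fun e => hM.ne ?_
      rw [e, Subgroup.map_comap_eq_self_of_surjective hπ])
    exact ⟨_, ⟨A, hA, rfl⟩, Subgroup.map_le_iff_le_comap.2 hle⟩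
  · rw [eq_top_iff, ← Subgroup.map_top_of_surjective π hπ, ← h.gen, Subgroup.map_le_iff_le_comap]
    exact sSup_le fun A hA => Subgroup.map_le_iff_le_comap.1 (le_sSup ⟨A, hA, rfl⟩)
  · rintro _ ⟨A, hA, rfl⟩
    obtain ⟨P, hP, hall⟩ := h.sep A hA
    by_cases hsing : ∀ A' ∈ 𝒜, A' = A
    · refine ⟨B.map π, fun e => ?_, fun A' hA' hne => absurd ?_ hne⟩
      · refine (h.above A hA).ne_top ?_
        rw [← hcm B le_rfl, e, Subgroup.comap_top]
      · obtain ⟨A', hA', rfl⟩ := hA'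
        rw [hsing A' hA']
    · push Not at hsing
      obtain ⟨A₁, hA₁, hne₁⟩ := hsing
      have hBP : B ≤ P := (h.above A₁ hA₁).le.trans (hall A₁ hA₁ hne₁)
      refine ⟨P.map π, fun e => hP ?_, ?_⟩
      · rw [← hcm P hBP, e, Subgroup.comap_top]
      · rintro _ ⟨A', hA', rfl⟩ hne
        exact Subgroup.map_mono (hall A' hA' fun e => hne (by rw [e]))

theorem smul (h : Atoms B 𝒜) (α : MulAut K) : Atoms (α • B) ((α • ·) '' 𝒜) :=
  h.map (π := α.toMonoidHom) α.surjective fun x hx => by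
    rw [MonoidHom.mem_ker, MulEquiv.coe_toMonoidHom, EmbeddingLike.map_eq_one_iff] at hx
    exact hx ▸ one_mem _

theorem smul_mem (h : Atoms B 𝒜) {α : MulAut K} (hα : α • B = B) {A : Subgroup K} (hA : A ∈ 𝒜) :
    α • A ∈ 𝒜 := by
  have h' := h.smul α
  rw [hα] at h'
  rw [h.unique h']
  exact ⟨A, hA, rfl⟩

end Atoms

/-- In rank one the Borel subgroup is maximal and the whole group is the only atom. -/
theorem atoms_of_isCoatom {B : Subgroup K} (h : IsCoatom B) : Atoms B {⊤} where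
  above := fun A hA => by rw [Set.mem_singleton_iff.1 hA]; exact h.1.lt_top
  atom := fun M hM => ⟨⊤, rfl, (h.2 M hM).ge⟩
  gen := by rw [sSup_singleton]
  sep := fun A hA => ⟨B, h.1, fun A' hA' hne =>
    absurd ((Set.mem_singleton_iff.1 hA').trans (Set.mem_singleton_iff.1 hA).symm) hne⟩

end Cfsg.Agent.Lib.PMinLie
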