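import Mathlib.GroupTheory.PGroup
import Cfsg.Prelude.Def_LocalEven
import Cfsg.Agent.Lib.PMinLie.Atoms

/-!
A `p`-minimal group with a normal subgroup whose Sylow normaliser has the lattice of overgroups of a
group of Lie type: the normaliser of the Sylow subgroup is maximal and the outer `p`-elements permute the
minimal parabolic subgroups transitively.
-/

set_option autoImplicit false
set_option linter.unusedSectionVars false
set_option linter.style.haveILetI false

namespace Cfsg.Agent.Lib.PMinLie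

open Pointwise

variable {X : Type*} [Group X] [Finite X] {p : ℕ} [Fact p.Prime]

theorem mem_of_normal_sylow {G : Type*} [Group G] [Finite G] (U : Sylow p G) {x : G}
    (hx : x ∈ Subgroup.normalizer ((U : Subgroup G) : Set G)) (hp : ∃ k, x ^ p ^ k = 1) :
    x ∈ (U : Subgroup G) := by
  obtain ⟨k, hk⟩ := hp
  have hz : IsPGroup p (Subgroup.zpowers x) := by
    rintro ⟨y, n, rfl⟩
    exact ⟨k, Subtype.ext (by
      show (x ^ n) ^ p ^ k = 1
      rw [← zpow_natCast, ← zpow_mul, mul_comm, zpow_mul, zpow_natCast, hk, one_zpow])⟩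
  exact ((inf_eq_left.2 (Subgroup.zpowers_le.2 hx)).symm.trans
    (hz.inf_normalizer_sylow U)).le.trans inf_le_right (Subgroup.mem_zpowers x)

theorem core (hX : Cfsg.IsPMinimal p X) (K : Subgroup X) [K.Normal] [Nontrivial K] (U : Sylow p K)
    {𝒜 : Set (Subgroup K)} (h : Atoms (Subgroup.normalizer ((U : Subgroup K) : Set K)) 𝒜) :
    IsCoatom (Subgroup.normalizer ((((U : Subgroup K).map K.subtype : Subgroup X)) : Set X)) ∧
      (∀ A ∈ 𝒜, ∀ A' ∈ 𝒜, Twins (Subgroup.normalizer ((U : Subgroup K) : Set K)) A A') ∧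
      (∃ k, 𝒜.ncard = p ^ k) ∧ (K = ⊤ → ∀ A ∈ 𝒜, ∀ A' ∈ 𝒜, A = A') := by
  classical
  set B := Subgroup.normalizer ((U : Subgroup K) : Set K) with hBdef
  set U' : Subgroup X := (U : Subgroup K).map K.subtype with hU'
  set N := Subgroup.normalizer (U' : Set X) with hNdef
  have hUK : U' ≤ K := Subgroup.map_subtype_le _
  have hUmem : ∀ {k : K}, (k : X) ∈ U' ↔ k ∈ (U : Subgroup K) := fun {k} =>
    Subgroup.mem_map_iff_mem (f := K.subtype) Subtype.val_injective
  have hNB : ∀ {k : K}, (k : X) ∈ N ↔ k ∈ B := by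
    intro k
    constructor
    · intro hk
      refine Subgroup.mem_normalizer_iff.2 fun y => ?_
      have h1 := Subgroup.mem_normalizer_iff.1 hk (y : X)
      rwa [← Subgroup.coe_mul, ← Subgroup.coe_inv, ← Subgroup.coe_mul, hUmem, hUmem] at h1
    · intro hk
      refine Subgroup.mem_normalizer_iff.2 fun y => ?_
      constructor
      · intro hy
        obtain ⟨z, hz, rfl⟩ := hy
        exact ⟨k * z * k⁻¹, (Subgroup.mem_normalizer_iff.1 hk z).1 hz, by simp⟩
      · intro hy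
        have hyK : y ∈ K := by
          have := mul_mem (mul_mem (inv_mem k.2) (hUK hy)) k.2
          simpa [mul_assoc] using this
        exact hUmem.2 ((Subgroup.mem_normalizer_iff.1 hk ⟨y, hyK⟩).2 (hUmem.1 (by simpa using hy)))
  have hNtop : N ≠ ⊤ := fun e => h.ne_top (eq_top_iff.2 fun k _ => hNB.1 (by simp [e]))
  obtain ⟨S, hS⟩ := (U.isPGroup'.map K.subtype).exists_le_sylow
  have hSK : ∀ {k : K}, (k : X) ∈ (S : Subgroup X) → k ∈ (U : Subgroup K) := by
    intro k hk
    have hp : IsPGroup p ((S : Subgroup X).subgroupOf K) :=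
      S.isPGroup'.comap_of_injective K.subtype Subtype.val_injective
    rw [← U.3 hp (fun u hu => hS ⟨u, hu, rfl⟩)]
    exact hk
  have hSN : (S : Subgroup X) ≤ N := by
    intro s hs
    refine Subgroup.mem_normalizer_iff.2 fun y => ⟨fun hy => ?_, fun hy => ?_⟩
    · have hyK := Subgroup.Normal.conj_mem ‹K.Normal› y (hUK hy) s
      exact hUmem.2 (hSK (k := ⟨_, hyK⟩) (mul_mem (mul_mem hs (hS hy)) (inv_mem hs)))
    · have hyK : y ∈ K := by
        have := Subgroup.Normal.conj_mem ‹K.Normal› _ (hUK hy) s⁻¹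
        simpa [mul_assoc] using this
      have h1 := mul_mem (mul_mem (inv_mem hs) (hS hy)) hs
      exact hUmem.2 (hSK (k := ⟨y, hyK⟩) (by simpa [mul_assoc] using h1))
  obtain ⟨-, M, ⟨hMc, hSM⟩, huniq⟩ := hX S
  have hle_M : ∀ {H : Subgroup X}, (S : Subgroup X) ≤ H → H ≠ ⊤ → H ≤ M := by
    intro H hSH hH
    obtain ⟨M', hM', hle⟩ := (eq_top_or_exists_le_coatom H).resolve_left hH
    exact (huniq M' ⟨hM', hSH.trans hle⟩) ▸ hle
  have hNM : N ≤ M := hle_M hSN hNtop
  set MK := M.subgroupOf K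
  have hBMK : B ≤ MK := fun k hk => hNM (hNB.2 hk)
  have hKM : ¬ K ≤ M := fun hK => hMc.1 (eq_top_iff.2
    (Sylow.normalizer_sup_eq_top U ▸ sup_le hNM hK))
  -- the action of the normaliser
  let a : X →* MulAut K := MulAut.conjNormal
  have ha : ∀ (x : X) (A : Subgroup K) (k : K), k ∈ a x • A ↔ (a x)⁻¹ k ∈ A := fun x A k =>
    Subgroup.mem_pointwise_smul_iff_inv_smul_mem
  have haval : ∀ (x : X) (k : K), (((a x)⁻¹ k : K) : X) = x⁻¹ * k * x := fun x k => by
    rw [← map_inv]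
    simp [a]
  have hfix : ∀ x ∈ N, a x • B = B := by
    intro x hx
    ext k
    rw [ha, ← hNB, ← hNB, haval]
    exact ⟨fun hk => by simpa [mul_assoc] using mul_mem (mul_mem hx hk) (inv_mem hx),
      fun hk => mul_mem (mul_mem (inv_mem hx) hk) hx⟩
  -- a join of an orbit, if proper, lies in `M`
  have horb : ∀ J : Subgroup K, B ≤ J → (∀ s ∈ (S : Subgroup X), a s • J = J) → J ≠ ⊤ → J ≤ MK := by
    intro J hBJ hJ hJtop
    have hnorm : (S : Subgroup X) ≤ Subgroup.normalizer ((J.map K.subtype : Subgroup X) : Set X) := by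
      intro s hs
      refine Subgroup.mem_normalizer_iff.2 fun y => ⟨?_, ?_⟩
      · rintro ⟨j, hj, rfl⟩
        refine ⟨a s j, ?_, by simp [a, MulAut.conjNormal_apply]⟩
        rw [← hJ s hs]
        exact Subgroup.smul_mem_pointwise_smul _ _ _ hj
      · rintro ⟨j, hj, e⟩
        refine ⟨(a s)⁻¹ j, ?_, ?_⟩
        · have h1 : j ∈ a s • J := by rw [hJ s hs]; exact hj
          exact (ha s J j).1 h1
        · rw [Subgroup.coe_subtype, haval, ← Subgroup.coe_subtype, e]
          group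
    have hle := hle_M (H := J.map K.subtype ⊔ (S : Subgroup X)) le_sup_right fun e => by
      refine hJtop (eq_top_iff.2 fun k _ => ?_)
      have hk : (k : X) ∈ ((J.map K.subtype ⊔ (S : Subgroup X) : Subgroup X) : Set X) := by simp [e]
      rw [Subgroup.coe_mul_of_right_le_normalizer_left _ _ hnorm] at hk
      obtain ⟨_, ⟨j, hj, rfl⟩, s, hs, e'⟩ := hk
      have hsK : j⁻¹ * k ∈ (U : Subgroup K) := hSK (by
        have es : ((j⁻¹ * k : K) : X) = s := by
          rw [Subgroup.coe_mul, Subgroup.coe_inv, inv_mul_eq_iff_eq_mul]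
          exact e'.symm
        rw [es]; exact hs)
      simpa using mul_mem hj (hBJ (Subgroup.le_normalizer hsK))
    exact fun k hk => hle (Subgroup.mem_sup_left ⟨k, hk, rfl⟩)
  have htrans : ∀ A ∈ 𝒜, ∀ A' ∈ 𝒜, ∃ s ∈ (S : Subgroup X), a s • A = A' := by
    obtain ⟨A₀, hA₀, hA₀M⟩ : ∃ A ∈ 𝒜, ¬ A ≤ MK := by
      by_contra hc
      push Not at hc
      exact hKM fun k hk => (h.gen ▸ sSup_le hc : ⊤ ≤ MK) (Subgroup.mem_top (⟨k, hk⟩ : K))
    have key : ∀ A' ∈ 𝒜, ∃ s ∈ (S : Subgroup X), a s • A₀ = A' := by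
      intro A' hA'
      by_contra hc
      push Not at hc
      obtain ⟨P, hP, hall⟩ := h.sep A' hA'
      set J := ⨆ u ∈ (S : Subgroup X), a u • A₀ with hJdef
      have hA₀J : A₀ ≤ J := le_iSup₂_of_le 1 (one_mem _) (by simp)
      have hinv : ∀ t ∈ (S : Subgroup X), a t • J ≤ J := by
        intro t ht
        rw [Subgroup.pointwise_smul_subset_iff]
        refine iSup₂_le fun u hu => ?_
        rw [← Subgroup.pointwise_smul_subset_iff, smul_smul, ← map_mul]
        exact le_iSup₂_of_le (t * u) (mul_mem ht hu) le_rfl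
      refine hA₀M (hA₀J.trans (horb J ((h.above A₀ hA₀).le.trans hA₀J) (fun s hs => ?_) ?_))
      · refine le_antisymm (hinv s hs) ?_
        have h1 := hinv s⁻¹ (inv_mem hs)
        rwa [Subgroup.pointwise_smul_subset_iff, map_inv, inv_inv] at h1
      · intro e
        exact hP (eq_top_iff.2 (e ▸ iSup₂_le fun s hs =>
          hall _ (h.smul_mem (hfix s (hSN hs)) hA₀) (hc s hs)))
    intro A hA A' hA'
    obtain ⟨s, hs, rfl⟩ := key A hA
    obtain ⟨t, ht, rfl⟩ := key A' hA'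
    exact ⟨t * s⁻¹, mul_mem ht (inv_mem hs), by rw [smul_smul, ← map_mul, inv_mul_cancel_right]⟩
  -- the trace of `M` on `K`
  have hMK : MK = B := by
    refine le_antisymm ?_ hBMK
    by_contra hlt
    obtain ⟨A, hA, hAM⟩ := h.atom MK (lt_of_le_not_ge hBMK hlt)
    refine hKM fun k hk => (h.gen ▸ sSup_le fun A' hA' => ?_ : ⊤ ≤ MK) (Subgroup.mem_top (⟨k, hk⟩ : K))
    obtain ⟨s, hs, rfl⟩ := htrans A hA A' hA'
    intro y hy
    rw [ha] at hy
    have h1 := hAM hy
    rw [Subgroup.mem_subgroupOf, haval] at h1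
    simpa [MK, Subgroup.mem_subgroupOf, mul_assoc] using mul_mem (mul_mem (hSM hs) h1) (inv_mem (hSM hs))
  have hMN : M ≤ N := by
    intro m hm
    have key : ∀ g ∈ M, ∀ y ∈ U', g * y * g⁻¹ ∈ U' := by
      rintro g hg _ ⟨u, hu, rfl⟩
      have hK' : g * (u : X) * g⁻¹ ∈ K := Subgroup.Normal.conj_mem ‹K.Normal› _ u.2 g
      have hB : (⟨_, hK'⟩ : K) ∈ B := by
        rw [← hMK, Subgroup.mem_subgroupOf]
        exact mul_mem (mul_mem hg (hNM (hNB.2 (Subgroup.le_normalizer hu)))) (inv_mem hg)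
      obtain ⟨k, hk⟩ := U.isPGroup' ⟨u, hu⟩
      refine hUmem.2 (mem_of_normal_sylow U hB ⟨k, Subtype.ext ?_⟩)
      show (g * (u : X) * g⁻¹) ^ p ^ k = 1
      rw [conj_pow]
      have : (u : X) ^ p ^ k = 1 := by simpa [Subtype.ext_iff] using hk
      simp [this]
    refine Subgroup.mem_normalizer_iff.2 fun y => ⟨key m hm y, fun hy => ?_⟩
    have := key m⁻¹ (inv_mem hm) _ hy
    simpa [mul_assoc] using this
  refine ⟨le_antisymm hNM hMN ▸ hMc, fun A hA A' hA' => ?_, ?_, fun hK A hA A' hA' => ?_⟩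
  · obtain ⟨s, hs, e⟩ := htrans A hA A' hA'
    exact ⟨a s, hfix s (hSN hs), e⟩
  · obtain ⟨A, hA⟩ := h.nonempty
    letI : MulAction (S : Subgroup X) (Subgroup K) :=
      MulAction.compHom _ (a.comp (S : Subgroup X).subtype)
    have e : MulAction.orbit (S : Subgroup X) A = 𝒜 := by
      ext A'
      constructor
      · rintro ⟨s, rfl⟩; exact h.smul_mem (hfix s (hSN s.2)) hA
      · intro hA'
        obtain ⟨s, hs, e⟩ := htrans A hA A' hA'
        exact ⟨⟨s, hs⟩, e⟩
    obtain ⟨k, hk⟩ := S.isPGroup'.card_orbit A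
    exact ⟨k, by rw [← e, ← Nat.card_coe_set_eq, hk]⟩
  · obtain ⟨s, hs, rfl⟩ := htrans A hA A' hA'
    have hsK : s ∈ K := hK ▸ Subgroup.mem_top s
    have hsA : (⟨s, hsK⟩ : K) ∈ A :=
      (h.above A hA).le (Subgroup.le_normalizer (hSK (k := ⟨s, hsK⟩) hs))
    ext k
    have e : (a s)⁻¹ k = (⟨s, hsK⟩ : K)⁻¹ * k * ⟨s, hsK⟩ := Subtype.ext (by
      rw [haval]; rfl)
    rw [ha, e, Subgroup.mul_mem_cancel_right _ hsA, Subgroup.mul_mem_cancel_left _ (inv_mem hsA)]

end Cfsg.Agent.Lib.PMinLie
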