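import Cfsg.Agent.Lib.PMinLie.Atoms

/-!
Commuting atoms: the graph of non-commuting minimal parabolic subgroups is preserved by automorphisms.
-/

set_option autoImplicit false

namespace Cfsg.Agent.Lib.PMinLie

open Pointwise

variable {K K' : Type*} [Group K] [Group K']

/-- The product of the two subgroups does not depend on the order. -/
def Comm (A A' : Subgroup K) : Prop := (A : Set K) * A' = (A' : Set K) * A

theorem comm_map_iff {π : K →* K'} {A A' : Subgroup K} (hA : π.ker ≤ A) (hA' : π.ker ≤ A') :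
    Comm (A.map π) (A'.map π) ↔ Comm A A' := by
  have key : ∀ {A A' : Subgroup K}, π.ker ≤ A →
      π ⁻¹' (π '' ((A : Set K) * A')) = (A : Set K) * A' := fun {A A'} hA => by
    refine Set.Subset.antisymm ?_ (Set.subset_preimage_image _ _)
    rintro x ⟨_, ⟨a, ha, a', ha', rfl⟩, e⟩
    refine ⟨x * (a * a')⁻¹ * a, mul_mem (hA ?_) ha, a', ha', by group⟩
    rw [MonoidHom.mem_ker, map_mul, map_inv, ← e]
    group
  unfold Comm
  rw [Subgroup.coe_map, Subgroup.coe_map, ← Set.image_mul π, ← Set.image_mul π]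
  refine ⟨fun h => ?_, fun h => by rw [h]⟩
  rw [← key hA, h, key hA']

theorem comm_smul_iff (α : MulAut K) (A A' : Subgroup K) : Comm (α • A) (α • A') ↔ Comm A A' := by
  have hker : α.toMonoidHom.ker = ⊥ := (MonoidHom.ker_eq_bot_iff _).2 α.injective
  exact comm_map_iff (π := α.toMonoidHom) (A := A) (A' := A') (hker ▸ bot_le) (hker ▸ bot_le)

/-- A node with a single neighbour and a node with two neighbours. -/
def HasDegrees (𝒜 : Set (Subgroup K)) : Prop :=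
  ∃ E ∈ 𝒜, ∃ F ∈ 𝒜, ∃ G ∈ 𝒜, ∃ F₁ ∈ 𝒜, ∃ F₂ ∈ 𝒜,
    (∀ A ∈ 𝒜, A ≠ F → Comm E A) ∧ F₁ ≠ F₂ ∧ ¬ Comm G F₁ ∧ ¬ Comm G F₂

/-- Some two atoms are not conjugate by an automorphism fixing `B`. -/
def HasNonTwins (B : Subgroup K) (𝒜 : Set (Subgroup K)) : Prop :=
  ∃ A ∈ 𝒜, ∃ A' ∈ 𝒜, ¬ Twins B A A'

theorem HasDegrees.hasNonTwins {B : Subgroup K} {𝒜 : Set (Subgroup K)} (h : Atoms B 𝒜)
    (hd : HasDegrees 𝒜) : HasNonTwins B 𝒜 := by
  obtain ⟨E, hE, F, -, G, hG, F₁, hF₁, F₂, hF₂, hone, hne, h1, h2⟩ := hd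
  refine ⟨E, hE, G, hG, fun ⟨α, hα, e⟩ => hne ?_⟩
  have hα' : α⁻¹ • B = B := inv_smul_eq_iff.2 hα.symm
  have key : ∀ F' ∈ 𝒜, ¬ Comm G F' → α⁻¹ • F' = F := fun F' hF' hc => by
    by_contra hne'
    have := (comm_smul_iff α _ _).2 (hone _ (h.smul_mem hα' hF') hne')
    rw [e, smul_inv_smul] at this
    exact hc this
  rw [← smul_inv_smul α F₁, key F₁ hF₁ h1, ← key F₂ hF₂ h2, smul_inv_smul]

theorem HasDegrees.map {𝒜 : Set (Subgroup K)} {π : K →* K'} (hker : ∀ A ∈ 𝒜, π.ker ≤ A)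
    (hd : HasDegrees 𝒜) : HasDegrees ((Subgroup.map π) '' 𝒜) := by
  obtain ⟨E, hE, F, hF, G, hG, F₁, hF₁, F₂, hF₂, hone, hne, h1, h2⟩ := hd
  refine ⟨_, ⟨E, hE, rfl⟩, _, ⟨F, hF, rfl⟩, _, ⟨G, hG, rfl⟩, _, ⟨F₁, hF₁, rfl⟩, _, ⟨F₂, hF₂, rfl⟩,
    ?_, fun e => hne ?_, fun hc => h1 ((comm_map_iff (hker _ hG) (hker _ hF₁)).1 hc),
    fun hc => h2 ((comm_map_iff (hker _ hG) (hker _ hF₂)).1 hc)⟩
  · rintro _ ⟨A, hA, rfl⟩ hA'
    exact (comm_map_iff (hker _ hE) (hker _ hA)).2 (hone A hA fun e => hA' (by rw [e]))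
  · have e' := congrArg (Subgroup.comap π) e
    rwa [Subgroup.comap_map_eq, Subgroup.comap_map_eq, sup_eq_left.2 (hker _ hF₁),
      sup_eq_left.2 (hker _ hF₂)] at e'

end Cfsg.Agent.Lib.PMinLie
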