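import Cfsg.Prelude.Def_AlmostLie
import Cfsg.Agent.Lib.PMinLie.Comm

/-!
What the proof needs from a family of groups of Lie type, and its transport.
-/

set_option autoImplicit false
set_option linter.unusedSectionVars false

namespace Cfsg.Agent.Lib.PMinLie

open Pointwise

/-- The groups of Lie rank two allowed in characteristic two. -/
def Allowed (p : ℕ) (K : Type*) [Group K] : Prop :=
  p = 2 → ((∃ (F : Type) (_ : Field F) (_ : Fintype F) (_ : CharP F 2),
      Nonempty (K ≃* Matrix.ProjectiveSpecialLinearGroup (Fin 3) F)) ∨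
    (∃ (F : Type) (_ : Field F) (_ : Fintype F) (_ : CharP F 2),
      4 ≤ Fintype.card F ∧ Nonempty (K ≃* Cfsg.PSp 2 F)) ∨
    Nonempty (K ≃* alternatingGroup (Fin 6)))

/-- The conclusion drawn from the lattice of overgroups of a Sylow normaliser. -/
def Shape (p : ℕ) (K : Type*) [Group K] (B : Subgroup K) (𝒜 : Set (Subgroup K)) : Prop :=
  Cfsg.IsLieRankOneChar p K ∨ (𝒜.ncard = 2 ∧ Allowed p K) ∨ HasNonTwins B 𝒜

/-- A group with the lattice above a Sylow normaliser and the dichotomy on its automorphisms. -/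
def Geom (p : ℕ) (K : Type*) [Group K] : Prop :=
  ∃ U : Sylow p K, ∃ 𝒜, Atoms (Subgroup.normalizer ((U : Subgroup K) : Set K)) 𝒜 ∧
    Shape p K (Subgroup.normalizer ((U : Subgroup K) : Set K)) 𝒜

theorem card_smul {K : Type*} [Group K] (α : MulAut K) (A : Subgroup K) :
    Nat.card (α • A : Subgroup K) = Nat.card A :=
  (Nat.card_congr (Subgroup.equivSMul α A).toEquiv).symm

theorem not_twins_of_card {K : Type*} [Group K] {B A A' : Subgroup K}
    (h : Nat.card A ≠ Nat.card A') : ¬ Twins B A A' := fun ⟨α, _, e⟩ => h (by rw [← e, card_smul])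

theorem smul_normalizer {K : Type*} [Group K] (α : MulAut K) (U : Subgroup K) :
    α • Subgroup.normalizer (U : Set K) = Subgroup.normalizer ((α • U : Subgroup K) : Set K) := by
  ext x
  rw [Subgroup.mem_pointwise_smul_iff_inv_smul_mem, Subgroup.mem_normalizer_iff,
    Subgroup.mem_normalizer_iff]
  refine ⟨fun h y => ?_, fun h y => ?_⟩
  · rw [Subgroup.mem_pointwise_smul_iff_inv_smul_mem, Subgroup.mem_pointwise_smul_iff_inv_smul_mem,
      h (α⁻¹ • y)]
    simp [MulAut.smul_def]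
  · have := h (α • y)
    rw [Subgroup.smul_mem_pointwise_smul_iff, Subgroup.mem_pointwise_smul_iff_inv_smul_mem] at this
    rw [this]
    simp [MulAut.smul_def]

theorem Geom.at_sylow {p : ℕ} [Fact p.Prime] {K : Type*} [Group K] [Finite K] (h : Geom p K)
    (U : Sylow p K) : ∃ 𝒜, Atoms (Subgroup.normalizer ((U : Subgroup K) : Set K)) 𝒜 ∧
      Shape p K (Subgroup.normalizer ((U : Subgroup K) : Set K)) 𝒜 := by
  obtain ⟨U₀, 𝒜, hA, hS⟩ := h
  obtain ⟨g, rfl⟩ := MulAction.exists_smul_eq K U₀ U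
  set α : MulAut K := MulAut.conj g
  have e : α • Subgroup.normalizer ((U₀ : Subgroup K) : Set K) =
      Subgroup.normalizer (((g • U₀ : Sylow p K) : Subgroup K) : Set K) := by
    rw [smul_normalizer]; rfl
  refine ⟨(α • ·) '' 𝒜, e ▸ hA.smul α, ?_⟩
  rcases hS with h1 | ⟨h2, h3⟩ | ⟨A, hA', A', hA'', hne⟩
  · exact Or.inl h1
  · exact Or.inr (Or.inl ⟨(Set.ncard_image_of_injective 𝒜 (MulAction.injective α)).trans h2, h3⟩)
  · refine Or.inr (Or.inr ⟨_, ⟨A, hA', rfl⟩, _, ⟨A', hA'', rfl⟩, fun ⟨β, hβ, hβ'⟩ =>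
      hne ⟨α⁻¹ * β * α, ?_, ?_⟩⟩)
    · rw [mul_smul, mul_smul, e, hβ, ← e, inv_smul_smul]
    · rw [mul_smul, mul_smul, hβ', inv_smul_smul]

end Cfsg.Agent.Lib.PMinLie
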