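import Mathlib.GroupTheory.Sylow
import Cfsg.Agent.Lib.PMinLie.Core
import Cfsg.Agent.Lib.PMinLie.Geom

/-!
Atoms over a self-normalising Sylow subgroup from a double coset certificate.
-/

set_option autoImplicit false
set_option linter.unusedSectionVars false

namespace Cfsg.Agent.Lib.PMinLie

open Subgroup
open scoped Pointwise

variable {G : Type*} [Group G] [Finite G] {p : ℕ} [Fact p.Prime]

/-- The overgroup attached to a reflection. -/
def certAtom (P₀ : Sylow p G) (x : G) : Subgroup G := closure (insert x ((P₀ : Subgroup G) : Set G))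

/-- A finite list closed under multiplication, as a subgroup. -/
def listSub {G : Type*} [Group G] [Finite G] (L : List G) (h1 : (1 : G) ∈ L)
    (hmul : ∀ a ∈ L, ∀ b ∈ L, a * b ∈ L) : Subgroup G where
  carrier := {x | x ∈ L}
  one_mem' := h1
  mul_mem' := fun ha hb => hmul _ ha _ hb
  inv_mem' := fun {x} hx => by
    have hpow : ∀ n : ℕ, x ^ n ∈ L := fun n => by
      induction n with
      | zero => rw [pow_zero]; exact h1
      | succ n ih => rw [pow_succ]; exact hmul _ ih _ hx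
    show x⁻¹ ∈ L
    rw [inv_eq_of_mul_eq_one_right (b := x ^ (orderOf x - 1)) (by
      rw [← pow_succ', Nat.sub_add_cancel (orderOf_pos x), pow_orderOf_eq_one])]
    exact hpow _

theorem card_listSub {G : Type*} [Group G] [Finite G] (L : List G) (h1 : (1 : G) ∈ L)
    (hmul : ∀ a ∈ L, ∀ b ∈ L, a * b ∈ L) (hnd : L.Nodup) :
    Nat.card (listSub L h1 hmul) = L.length := by
  classical
  have e : (listSub L h1 hmul : Set G) = ↑L.toFinset := by ext; simp [listSub]
  rw [← SetLike.coe_sort_coe, e, Nat.card_coe_set_eq, Set.ncard_coe_finset,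
    List.toFinset_card_of_nodup hnd]

/-- The two overgroups attached to a certificate. -/
theorem atoms_cert (P₀ : Sylow p G) {ι : Type*} (C : ι → G)
    (hcover : ∀ g, ∃ u ∈ (P₀ : Subgroup G), ∃ k, ∃ v ∈ (P₀ : Subgroup G), g = u * C k * v)
    (r : Fin 2 → G) (Q : Fin 2 → Subgroup G) (hQle : ∀ i, Q i ≤ P₀)
    (hout : ∀ i, ∃ x ∈ Q i, r i * x * (r i)⁻¹ ∉ (P₀ : Subgroup G))
    (hQP : ∀ i, (P₀ : Subgroup G) ≤ normalizer (Q i : Set G))
    (hrQ : ∀ i j, i ≠ j → r j ∈ normalizer (Q i : Set G))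
    (hdich : ∀ k, C k ∈ (P₀ : Subgroup G) ∨ ∃ i, r i ∈ closure (insert (C k) ((P₀ : Subgroup G) : Set G)))
    (hgen : ∀ k, C k ∈ closure (((P₀ : Subgroup G) : Set G) ∪ Set.range r)) :
    normalizer ((P₀ : Subgroup G) : Set G) = P₀ ∧
      Atoms (P₀ : Subgroup G) {certAtom P₀ (r 0), certAtom P₀ (r 1)} ∧
      (∀ i j, i ≠ j → certAtom P₀ (r j) ≤ normalizer (Q i : Set G)) ∧
      certAtom P₀ (r 0) ≠ certAtom P₀ (r 1) ∧
      ∀ i, r i ∉ normalizer ((P₀ : Subgroup G) : Set G) := by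
  have hall : ∀ H : Subgroup G, (P₀ : Subgroup G) ≤ H → (∀ i, r i ∈ H) → H = ⊤ := fun H hPH hr =>
    eq_top_iff.2 fun g _ => by
      obtain ⟨u, hu, k, v, hv, rfl⟩ := hcover g
      have hk : C k ∈ H := (closure_le H).2 (Set.union_subset hPH
        (by rintro _ ⟨i, rfl⟩; exact hr i)) (hgen k)
      exact mul_mem (mul_mem (hPH hu) hk) (hPH hv)
  have hN : ∀ i, r i ∉ normalizer (Q i : Set G) := fun i hi => by
    obtain ⟨x, hx, hx'⟩ := hout i
    exact hx' (hQle i ((mem_normalizer_iff.1 hi x).1 hx))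
  have hrP : ∀ i, r i ∉ normalizer ((P₀ : Subgroup G) : Set G) := fun i hi => by
    obtain ⟨x, hx, hx'⟩ := hout i
    exact hx' ((mem_normalizer_iff.1 hi x).1 (hQle i hx))
  have hatom : ∀ M : Subgroup G, (P₀ : Subgroup G) < M → ∃ i, r i ∈ M := fun M hM => by
    obtain ⟨g, hgM, hgP⟩ := SetLike.exists_of_lt hM
    obtain ⟨u, hu, k, v, hv, rfl⟩ := hcover g
    have hk : C k ∈ M := by
      have h := mul_mem (mul_mem (inv_mem (hM.le hu)) hgM) (inv_mem (hM.le hv))
      simpa [mul_assoc] using h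
    rcases hdich k with h | ⟨i, hi⟩
    · exact absurd (mul_mem (mul_mem hu h) hv) hgP
    · exact ⟨i, (closure_le M).2 (Set.insert_subset_iff.2 ⟨hk, hM.le⟩) hi⟩
  have hr_mem : ∀ i, r i ∈ certAtom P₀ (r i) := fun i => subset_closure (Or.inl rfl)
  have hP_le : ∀ i, (P₀ : Subgroup G) ≤ certAtom P₀ (r i) := fun i x hx => subset_closure (Or.inr hx)
  have hle : ∀ i j, i ≠ j → certAtom P₀ (r j) ≤ normalizer (Q i : Set G) := fun i j h =>
    (closure_le _).2 (Set.insert_subset_iff.2 ⟨hrQ i j h, hQP i⟩)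
  have hne : certAtom P₀ (r 0) ≠ certAtom P₀ (r 1) := fun e =>
    hN 0 (hle 0 1 (by decide) (e ▸ hr_mem 0))
  refine ⟨?_, ⟨?_, fun M hM => ?_, ?_, ?_⟩, hle, hne, hrP⟩
  · refine le_antisymm ?_ le_normalizer
    by_contra h
    obtain ⟨i, hi⟩ := hatom _ (lt_of_le_not_ge le_normalizer h)
    exact hrP i hi
  · rintro _ (rfl | rfl) <;>
      exact lt_of_le_not_ge (hP_le _) fun h => hrP _ (le_normalizer (h (hr_mem _)))
  · obtain ⟨i, hi⟩ := hatom M hM
    refine ⟨certAtom P₀ (r i), ?_, (closure_le M).2 (Set.insert_subset_iff.2 ⟨hi, hM.le⟩)⟩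
    fin_cases i
    · exact Or.inl rfl
    · exact Or.inr rfl
  · refine hall _ ((hP_le 0).trans (le_sSup (Or.inl rfl))) fun i => ?_
    fin_cases i
    · exact le_sSup (s := {certAtom P₀ (r 0), certAtom P₀ (r 1)}) (Or.inl rfl) (hr_mem 0)
    · exact le_sSup (s := {certAtom P₀ (r 0), certAtom P₀ (r 1)}) (Or.inr rfl) (hr_mem 1)
  · rintro _ (rfl | rfl)
    · refine ⟨normalizer (Q 0 : Set G), fun e => hN 0 (e ▸ mem_top _), ?_⟩
      rintro _ (rfl | rfl) h
      · exact absurd rfl h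
      · exact hle 0 1 (by decide)
    · refine ⟨normalizer (Q 1 : Set G), fun e => hN 1 (e ▸ mem_top _), ?_⟩
      rintro _ (rfl | rfl) h
      · exact hle 1 0 (by decide)
      · exact absurd rfl h

/-- Two non-twin overgroups of a self-normalising Sylow subgroup, transported. -/
theorem geom_of_two (P₀ : Sylow p G) (hN : normalizer ((P₀ : Subgroup G) : Set G) = P₀)
    {A A' : Subgroup G} (hA : Atoms (P₀ : Subgroup G) {A, A'})
    (hnot : ¬ Twins (P₀ : Subgroup G) A A') {K : Type*} [Group K] [Finite K] (e : K ≃* G) :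
    Geom p K := by
  set π : G →* K := e.symm.toMonoidHom with hπdef
  set S : Sylow p K := P₀.mapSurjective (f := π) e.symm.surjective
  have hU : normalizer ((S : Subgroup K) : Set K) = (P₀ : Subgroup G).map π := by
    conv_rhs => rw [← hN, Subgroup.map_normalizer_eq_of_bijective _ (MulEquiv.bijective e.symm)]
    rfl
  have hker : π.ker ≤ (P₀ : Subgroup G) := fun x hx => by
    rw [MonoidHom.mem_ker, hπdef, MulEquiv.coe_toMonoidHom, EmbeddingLike.map_eq_one_iff] at hx
    exact hx ▸ one_mem _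
  have hA' := hA.map (π := π) e.symm.surjective hker
  rw [← hU] at hA'
  refine ⟨S, Subgroup.map π '' {A, A'}, hA', Or.inr (Or.inr
    ⟨_, ⟨A, Or.inl rfl, rfl⟩, _, ⟨A', Or.inr rfl, rfl⟩, fun ⟨α, hα, hα'⟩ => hnot ?_⟩)⟩
  set β : MulAut G := (e.symm.trans α).trans e with hβ
  have key : ∀ M : Subgroup G, (β • M).map π = α • M.map π := fun M => by
    ext y
    simp only [Subgroup.mem_map, Subgroup.pointwise_smul_def, MulDistribMulAction.toMonoidEnd_apply]
    constructor
    · rintro ⟨x, ⟨z, hz, rfl⟩, rfl⟩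
      exact ⟨π z, ⟨z, hz, rfl⟩, by simp [π, β, MulAut.smul_def]⟩
    · rintro ⟨x, ⟨z, hz, rfl⟩, rfl⟩
      exact ⟨β z, ⟨z, hz, rfl⟩, by simp [π, β, MulAut.smul_def]⟩
  rw [hU] at hα
  exact ⟨β, Subgroup.map_injective (f := π) e.symm.injective ((key _).trans hα),
    Subgroup.map_injective (f := π) e.symm.injective ((key _).trans hα')⟩

end Cfsg.Agent.Lib.PMinLie
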