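import Mathlib.GroupTheory.SpecificGroups.Alternating
import Cfsg.Agent.Lib.PMinLie.Cert
import Cfsg.Agent.Lib.PMinLie.Geom

/-!
The two overgroups of a Sylow 2-subgroup of the alternating group of degree 6.
-/

set_option autoImplicit false
set_option maxRecDepth 100000

namespace Cfsg.Agent.Lib.PMinLie.AltSix

open Equiv
open scoped Pointwise

/-- a Sylow 2-subgroup -/
def PL : List (Perm (Fin 6)) :=
  [1, swap 1 3 * swap 4 5, swap 0 1 * swap 2 3, swap 0 1 * swap 1 2 * swap 2 3 * swap 4 5,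
    swap 0 2 * swap 4 5, swap 0 2 * swap 1 3, swap 0 3 * swap 1 3 * swap 2 3 * swap 4 5,
    swap 0 3 * swap 1 2]

/-- double coset representatives -/
def CL : List (Perm (Fin 6)) :=
  [1, swap 3 4 * swap 4 5, swap 2 3 * swap 4 5, swap 2 3 * swap 3 4, swap 2 3 * swap 3 5,
    swap 2 4 * swap 3 5, swap 1 2 * swap 2 4 * swap 3 5 * swap 4 5,
    swap 1 4 * swap 2 4 * swap 3 5 * swap 4 5, swap 1 4 * swap 3 5]

/-- the two reflections -/
def rL : Fin 2 → Perm (Fin 6) := ![swap 0 1 * swap 4 5, swap 0 4 * swap 2 5]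

/-- the two radicals -/
def qL : Fin 2 → List (Perm (Fin 6)) :=
  ![[1, swap 0 2 * swap 1 3, swap 0 2 * swap 4 5, swap 1 3 * swap 4 5],
    [1, swap 0 1 * swap 2 3, swap 0 2 * swap 1 3, swap 0 3 * swap 1 2]]

/-- the value of a word -/
def ev (tok : List (Perm (Fin 6))) (w : List ℕ) : Perm (Fin 6) := (w.map fun i => tok.getD i 1).prod

/-- words reaching a reflection -/
def dichW : List (Fin 2 × List ℕ) :=
  [(0, []), (0, [2, 8, 6, 8, 3, 8]), (0, [2, 8]), (0, [6, 8, 5, 8, 7, 8]), (0, [6, 8, 5, 8, 7, 8]),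
    (0, [8, 2, 8]), (0, [8, 6, 8, 8, 3, 8]), (0, [8, 5, 8, 8, 8, 8]), (1, [2, 8, 2])]

/-- words for the representatives -/
def genW : List (List ℕ) :=
  [[], [9, 3, 8, 9], [2, 8], [2, 8, 9, 8, 6, 9], [2, 8, 9, 3, 8, 9], [3, 8, 9, 8, 6], [6, 9, 8, 1],
    [1, 8, 9, 2], [2, 9, 2]]

theorem sign_ok : (∀ x ∈ PL ++ CL ++ qL 0 ++ qL 1, Perm.sign x = 1) ∧ ∀ i, Perm.sign (rL i) = 1 := by
  decide +kernel

theorem pl_ok : (1 : Perm (Fin 6)) ∈ PL ∧ (∀ a ∈ PL, ∀ b ∈ PL, a * b ∈ PL) ∧ PL.Nodup := by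
  decide +kernel

theorem cover_ok : ∀ g : Perm (Fin 6), Perm.sign g = 1 →
    g ∈ CL.flatMap fun c => PL.flatMap fun u => PL.map fun v => u * c * v := by
  decide +kernel

theorem dich_ok : ∀ k : Fin CL.length, CL[k.val] ∈ PL ∨
    ev (PL ++ [CL[k.val]]) (dichW.getD k.val (0, [])).2 = rL (dichW.getD k.val (0, [])).1 := by
  decide +kernel

theorem gen_ok : ∀ k : Fin CL.length, ev (PL ++ [rL 0, rL 1]) (genW.getD k.val []) = CL[k.val] := by
  decide +kernel

theorem q_sub : ∀ i : Fin 2, (∀ a ∈ qL i, a ∈ PL) ∧ (∃ a ∈ qL i, rL i * a * (rL i)⁻¹ ∉ PL) := by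
  decide +kernel

theorem q_conj : ∀ i : Fin 2, ∀ u ∈ PL, ∀ a ∈ qL i, u * a * u⁻¹ ∈ qL i := by decide +kernel

theorem q_refl : ∀ i j : Fin 2, i ≠ j → ∀ a ∈ qL i, rL j * a * (rL j)⁻¹ ∈ qL i := by decide +kernel

theorem q_ok (i : Fin 2) : (∀ a ∈ qL i, a ∈ PL) ∧ (∃ a ∈ qL i, rL i * a * (rL i)⁻¹ ∉ PL) ∧
    (∀ u ∈ PL, ∀ a ∈ qL i, u * a * u⁻¹ ∈ qL i) ∧
    (∀ j : Fin 2, i ≠ j → ∀ a ∈ qL i, rL j * a * (rL j)⁻¹ ∈ qL i) :=
  ⟨(q_sub i).1, (q_sub i).2, q_conj i, q_refl i⟩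

/-- The alternating group. -/
abbrev A6 : Type := ↥(alternatingGroup (Fin 6))

noncomputable def lift (x : Perm (Fin 6)) : A6 := by
  classical exact if h : Perm.sign x = 1 then ⟨x, h⟩ else 1

theorem coe_lift {x : Perm (Fin 6)} (h : Perm.sign x = 1) : ((lift x : A6) : Perm (Fin 6)) = x := by
  rw [lift, dif_pos h]

/-- The Sylow subgroup. -/
noncomputable def P : Subgroup A6 :=
  (listSub PL pl_ok.1 pl_ok.2.1).comap (alternatingGroup (Fin 6)).subtype

theorem mem_P {x : A6} : x ∈ P ↔ (x : Perm (Fin 6)) ∈ PL := Iff.rfl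

theorem card_P : Nat.card P = 8 := by
  have hle : listSub PL pl_ok.1 pl_ok.2.1 ≤ alternatingGroup (Fin 6) := fun x hx =>
    sign_ok.1 x (by simp only [List.mem_append]; exact Or.inl (Or.inl (Or.inl hx)))
  show Nat.card ↥((listSub PL pl_ok.1 pl_ok.2.1).subgroupOf (alternatingGroup (Fin 6))) = 8
  rw [Nat.card_congr (Subgroup.subgroupOfEquivOfLe hle).toEquiv, card_listSub _ _ _ pl_ok.2.2]
  rfl

theorem card_A6 : Nat.card A6 = 360 := by
  rw [nat_card_alternatingGroup, Nat.card_fin]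
  rfl

noncomputable def P₀ [Fact (Nat.Prime 2)] : Sylow 2 A6 :=
  (IsPGroup.of_card (n := 3) (by rw [card_P]; norm_num) : IsPGroup 2 P).toSylow (by
    intro h
    have h1 := P.card_mul_index
    rw [card_P, card_A6] at h1
    omega)

theorem mem_P₀ [Fact (Nat.Prime 2)] {x : A6} :
    x ∈ (P₀ : Subgroup A6) ↔ (x : Perm (Fin 6)) ∈ PL := Iff.rfl

theorem ev_mem {H : Subgroup A6} {tok : List (Perm (Fin 6))}
    (h : ∀ x ∈ tok, ∃ y ∈ H, (y : Perm (Fin 6)) = x) :
    ∀ w : List ℕ, ∃ y ∈ H, (y : Perm (Fin 6)) = ev tok w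
  | [] => ⟨1, one_mem _, rfl⟩
  | i :: w => by
    obtain ⟨y, hy, e⟩ := ev_mem h w
    obtain ⟨z, hz, e'⟩ : ∃ z ∈ H, (z : Perm (Fin 6)) = tok.getD i 1 := by
      by_cases hi : i < tok.length
      · rw [List.getD_eq_getElem _ _ hi]; exact h _ (List.getElem_mem hi)
      · rw [List.getD_eq_default _ _ (Nat.not_lt.1 hi)]; exact ⟨1, one_mem _, rfl⟩
    exact ⟨z * y, mul_mem hz hy, by rw [Subgroup.coe_mul, e, e']; simp [ev]⟩

theorem geom_A6 [Fact (Nat.Prime 2)] {K : Type*} [Group K] [Finite K] (e : K ≃* A6) : Geom 2 K := by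
  classical
  have hsC : ∀ k : Fin CL.length, Perm.sign CL[k.val] = 1 := fun k => sign_ok.1 _ (by
    simp only [List.mem_append]; exact Or.inl (Or.inl (Or.inr (List.getElem_mem k.2))))
  have hsP : ∀ x ∈ PL, Perm.sign x = 1 := fun x hx => sign_ok.1 x (by
    simp only [List.mem_append]; exact Or.inl (Or.inl (Or.inl hx)))
  have hliftP : ∀ x ∈ PL, lift x ∈ (P₀ : Subgroup A6) ∧ (lift x : Perm (Fin 6)) = x := fun x hx =>
    ⟨mem_P₀.2 (by rw [coe_lift (hsP x hx)]; exact hx), coe_lift (hsP x hx)⟩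
  set Q : Fin 2 → Subgroup A6 := fun i => Subgroup.closure {x | (x : Perm (Fin 6)) ∈ qL i} with hQ
  have hnorm : ∀ i, ∀ g : A6, (∀ a ∈ qL i, (g : Perm (Fin 6)) * a * (g : Perm (Fin 6))⁻¹ ∈ qL i) →
      g ∈ Subgroup.normalizer (Q i : Set A6) := by
    intro i g hg
    rw [Subgroup.mem_normalizer_iff_map_conj_eq]
    refine Subgroup.eq_of_le_of_card_ge ?_ (le_of_eq ?_)
    · show (Subgroup.closure _).map _ ≤ Subgroup.closure _
      rw [MonoidHom.map_closure, Subgroup.closure_le]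
      rintro _ ⟨s, hs, rfl⟩
      exact Subgroup.subset_closure (hg _ hs)
    · exact Nat.card_congr ((Q i).equivMapOfInjective _ (MulAut.conj g).injective).toEquiv
  obtain ⟨hN, hA, hne⟩ :
      Subgroup.normalizer ((P₀ : Subgroup A6) : Set A6) = P₀ ∧
        Atoms (P₀ : Subgroup A6) {certAtom P₀ (lift (rL 0)), certAtom P₀ (lift (rL 1))} ∧
        certAtom P₀ (lift (rL 0)) ≠ certAtom P₀ (lift (rL 1)) := by
   refine (fun h => ⟨h.1, h.2.1, h.2.2.2.1⟩) (atoms_cert P₀ (fun k : Fin CL.length => lift CL[k.val])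
    (fun g => ?_)
    (fun i => lift (rL i)) Q (fun i => ?_) (fun i => ?_)
    (fun i x hx => hnorm i x fun a ha => (q_ok i).2.2.1 _ (mem_P₀.1 hx) a ha)
    (fun i j hij => hnorm i _ fun a ha => by
      rw [coe_lift (sign_ok.2 j)]; exact (q_ok i).2.2.2 j hij a ha)
    (fun k => ?_) (fun k => ?_))
   rotate_left
   · rw [hQ, Subgroup.closure_le]
     intro x hx
     exact mem_P₀.2 ((q_ok i).1 _ hx)
   · obtain ⟨a, ha, hne⟩ := (q_ok i).2.1
     have hs : Perm.sign a = 1 := hsP a ((q_ok i).1 a ha)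
     refine ⟨lift a, Subgroup.subset_closure (by
       show (lift a : Perm (Fin 6)) ∈ qL i
       rwa [coe_lift hs]), fun h2 => hne ?_⟩
     have h3 := mem_P₀.1 h2
     rwa [Subgroup.coe_mul, Subgroup.coe_mul, Subgroup.coe_inv, coe_lift (sign_ok.2 i), coe_lift hs] at h3
   · rcases dich_ok k with h | h
     · exact Or.inl (mem_P₀.2 (by rw [coe_lift (hsC k)]; exact h))
     · refine Or.inr ⟨(dichW.getD k.val (0, [])).1, ?_⟩
       obtain ⟨y, hy, e⟩ := ev_mem (H := Subgroup.closure (insert (lift CL[k.val]) ((P₀ : Subgroup A6) : Set A6)))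
         (tok := PL ++ [CL[k.val]]) (fun x hx => by
           rcases List.mem_append.1 hx with hx | hx
           · exact ⟨lift x, Subgroup.subset_closure (Or.inr (hliftP x hx).1), (hliftP x hx).2⟩
           · rw [List.mem_singleton] at hx
             exact ⟨lift CL[k.val], Subgroup.subset_closure (Or.inl rfl), by rw [coe_lift (hsC k), hx]⟩)
         (dichW.getD k.val (0, [])).2
       rw [h] at e
       convert hy using 1
       exact Subtype.ext (by rw [e, coe_lift (sign_ok.2 _)])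
   · obtain ⟨y, hy, e⟩ := ev_mem
       (H := Subgroup.closure (((P₀ : Subgroup A6) : Set A6) ∪ Set.range fun i => lift (rL i)))
       (tok := PL ++ [rL 0, rL 1]) (fun x hx => by
         rcases List.mem_append.1 hx with hx | hx
         · exact ⟨lift x, Subgroup.subset_closure (Or.inl (hliftP x hx).1), (hliftP x hx).2⟩
         · simp only [List.mem_cons, List.not_mem_nil, or_false] at hx
           rcases hx with rfl | rfl
           · exact ⟨_, Subgroup.subset_closure (Or.inr ⟨0, rfl⟩), coe_lift (sign_ok.2 0)⟩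
           · exact ⟨_, Subgroup.subset_closure (Or.inr ⟨1, rfl⟩), coe_lift (sign_ok.2 1)⟩)
       (genW.getD k.val [])
     rw [gen_ok k] at e
     convert hy using 1
     exact Subtype.ext (by rw [e, coe_lift (hsC k)])
   · have h := cover_ok (g : Perm (Fin 6)) g.2
     simp only [List.mem_flatMap, List.mem_map] at h
     obtain ⟨c, hc, u, hu, v, hv, he⟩ := h
     obtain ⟨n, hn, rfl⟩ := List.mem_iff_getElem.1 hc
     refine ⟨lift u, (hliftP u hu).1, ⟨n, hn⟩, lift v, (hliftP v hv).1, Subtype.ext ?_⟩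
     rw [Subgroup.coe_mul, Subgroup.coe_mul, (hliftP u hu).2, (hliftP v hv).2, coe_lift (hsC ⟨n, hn⟩)]
     exact he.symm
  set U : Sylow 2 K := P₀.mapSurjective (f := e.symm.toMonoidHom) e.symm.surjective
  have hU : Subgroup.normalizer ((U : Subgroup K) : Set K) = (P₀ : Subgroup A6).map e.symm.toMonoidHom := by
    conv_rhs => rw [← hN, Subgroup.map_normalizer_eq_of_bijective _ (MulEquiv.bijective e.symm)]
    rfl
  have hker : e.symm.toMonoidHom.ker ≤ (P₀ : Subgroup A6) := fun x hx => by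
    rw [MonoidHom.mem_ker, MulEquiv.coe_toMonoidHom, EmbeddingLike.map_eq_one_iff] at hx
    exact hx ▸ one_mem _
  refine ⟨U, _, hU.symm ▸ hA.map (π := e.symm.toMonoidHom) e.symm.surjective hker,
    Or.inr (Or.inl ⟨?_, fun _ => Or.inr (Or.inr ⟨e⟩)⟩)⟩
  rw [Set.ncard_image_of_injective _ (Subgroup.map_injective (f := e.symm.toMonoidHom) e.symm.injective),
    Set.ncard_pair hne]

end Cfsg.Agent.Lib.PMinLie.AltSix
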