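import Cfsg.Agent.Lib.LieChambers.Tits
import Cfsg.Agent.Lib.PMinLie.Comm

/-!
The stabilisers of the panels through a base chamber are the atoms over the stabiliser of the chamber.
-/

set_option autoImplicit false
set_option linter.unusedSectionVars false
set_option linter.style.haveILetI false

namespace Cfsg.Agent.Lib.LieChambers.Sys

open MulAction
open scoped Pointwise
open Cfsg.Agent.Lib.PMinLie

variable {p : ℕ} {G X K : Type*} [Group G] [MulAction G X] [Finite X] (S : Sys p G X K)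

/-- The labels in `L` give thick panels through the base chambers, the others only join base chambers. -/
structure Thick (L : Set K) : Prop where
  par : ∀ g : G, ∀ b ∈ S.Bs, g • b ∈ S.Bs → g • b = b
  lab : ∀ g : G, ∀ b ∈ S.Bs, ∀ b' ∈ S.Bs, ∀ k ∈ L, g • b' ∈ S.panel k b → b' = b
  thin : ∀ b ∈ S.Bs, ∀ k ∉ L, ∀ y ∈ S.panel k b, y ∈ S.Bs
  thin_ne : ∀ b ∈ S.Bs, ∀ k ∉ L, ∃ b' ∈ S.Bs, b' ∈ S.panel k b ∧ b' ≠ b
  ne : L.Nonempty

theorem thick_univ [Nonempty K] (hBs : S.Bs = {S.C}) : S.Thick Set.univ where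
  par g b hb hgb := by
    rw [hBs, Set.mem_singleton_iff] at hb hgb
    rw [hgb, hb]
  lab g b hb b' hb' k _ _ := by
    rw [hBs, Set.mem_singleton_iff] at hb hb'
    rw [hb', hb]
  thin b _ k hk := absurd (Set.mem_univ k) hk
  thin_ne b _ k hk := absurd (Set.mem_univ k) hk
  ne := Set.univ_nonempty

/-- The stabiliser of the panel of type `k` through `b`. -/
def panelStab (k : K) (b : X) : Subgroup G where
  carrier := {g | g • b ∈ S.panel k b}
  one_mem' := by simpa using S.self_mem k b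
  mul_mem' := fun {g h} (hg : g • b ∈ _) (hh : h • b ∈ _) => by
    show (g * h) • b ∈ S.panel k b
    rw [mul_smul, ← S.eq_of_mem hg]
    exact S.smul_mem g hh
  inv_mem' := fun {g} (hg : g • b ∈ _) => by
    show g⁻¹ • b ∈ S.panel k b
    have h1 : b ∈ S.panel k (g • b) := by rw [S.eq_of_mem hg]; exact S.self_mem k b
    have := S.smul_mem g⁻¹ h1
    rwa [inv_smul_smul] at this

theorem mem_panelStab {k : K} {b : X} {g : G} : g ∈ S.panelStab k b ↔ g • b ∈ S.panel k b := Iff.rfl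

/-- The panel stabilisers at the base chambers, over the thick labels. -/
def atomSet (L : Set K) : Set (Subgroup G) := {A | ∃ b ∈ S.Bs, ∃ k ∈ L, A = S.panelStab k b}

variable {S}

theorem fix_iff {b : X} (hb : b ∈ S.Bs) {g : G} : g • b = b ↔ g ∈ stabilizer G S.C := by
  rw [← S.Bs_stab b hb, mem_stabilizer_iff]

theorem stab_le_panelStab {b : X} (hb : b ∈ S.Bs) (k : K) : stabilizer G S.C ≤ S.panelStab k b :=
  fun g hg => by rw [mem_panelStab, (fix_iff hb).2 hg]; exact S.self_mem k b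

/-- A panel stabiliser is generated by `B` and any of its elements outside `B`. -/
theorem panelStab_le_of_mem {b : X} (hb : b ∈ S.Bs) {k : K} {h : G} (hh : h ∈ S.panelStab k b)
    (hhB : h ∉ stabilizer G S.C) {M : Subgroup G} (hBM : stabilizer G S.C ≤ M) (hhM : h ∈ M) :
    S.panelStab k b ≤ M := by
  intro g hg
  by_cases hgB : g ∈ stabilizer G S.C
  · exact hBM hgB
  obtain ⟨u, hu, e⟩ := S.trans b hb k _ hh _ hg (fun e => hhB ((fix_iff hb).1 e))
    fun e => hgB ((fix_iff hb).1 e)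
  have h1 : (u * h)⁻¹ * g ∈ stabilizer G S.C := (fix_iff hb).1 (by
    rw [mul_smul, ← e, inv_smul_eq_iff, mul_smul])
  have := mul_mem (mul_mem (hBM (S.U_le_stab hu)) hhM) (hBM h1)
  rwa [mul_inv_cancel_left] at this

theorem eq_of_common {b b' : X} (hb : b ∈ S.Bs) (hb' : b' ∈ S.Bs) {k k' : K} {h : G}
    (hh : h ∈ S.panelStab k b) (hh' : h ∈ S.panelStab k' b') (hhB : h ∉ stabilizer G S.C) :
    S.panelStab k b = S.panelStab k' b' :=
  le_antisymm (panelStab_le_of_mem hb hh hhB (stab_le_panelStab hb' k') hh')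
    (panelStab_le_of_mem hb' hh' hhB (stab_le_panelStab hb k) hh)

theorem exists_mover_atom {L : Set K} (hT : S.Thick L) {b : X} (hb : b ∈ S.Bs) {k : K} (hk : k ∈ L) :
    ∃ g ∈ S.panelStab k b, g • b ≠ b := by
  obtain ⟨y, hy, hne⟩ := S.exists_ne k b
  obtain ⟨g, b', hb', rfl⟩ := S.exists_base y
  obtain rfl := hT.lab g b hb b' hb' k hk hy
  exact ⟨g, hy, hne⟩

theorem atoms {L : Set K} (hT : S.Thick L) (hmove : S.Move) (hlab : S.Labels) :
    Atoms (stabilizer G S.C) (S.atomSet L) := by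
  refine ⟨?_, fun M hM => ?_, ?_, ?_⟩
  · rintro _ ⟨b, hb, k, hk, rfl⟩
    obtain ⟨g, hg, hne⟩ := exists_mover_atom hT hb hk
    exact lt_of_le_not_ge (stab_le_panelStab hb k) fun h => hne ((fix_iff hb).2 (h hg))
  · obtain ⟨h, ⟨hhM, hadj⟩, hhB⟩ : ∃ h ∈ {h | h ∈ M ∧ S.Adj h}, h ∉ stabilizer G S.C := by
      by_contra hc
      push Not at hc
      refine hM.not_ge fun g hg => (Subgroup.closure_le (K := stabilizer G S.C)).2 hc
        (S.mem_closure_adj hmove (S.U_le_stab.trans hM.le) g hg)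
    rcases hadj with ⟨b, hb, hhb⟩ | ⟨b, hb, b', hb', k, hmem⟩
    · exact absurd ((fix_iff hb).1 (hT.par h b hb hhb)) hhB
    · by_cases hk : k ∈ L
      · obtain rfl := hT.lab h b hb b' hb' k hk hmem
        exact ⟨_, ⟨b', hb', k, hk, rfl⟩, panelStab_le_of_mem hb' hmem hhB hM.le hhM⟩
      · exact absurd ((fix_iff hb').1 (hT.par h b' hb' (hT.thin b hb k hk _ hmem))) hhB
  · obtain ⟨k₀, hk₀⟩ := hT.ne
    set M := sSup (S.atomSet L) with hMdef
    have hle : ∀ {b k}, b ∈ S.Bs → k ∈ L → S.panelStab k b ≤ M := fun hb hk =>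
      le_sSup ⟨_, hb, _, hk, rfl⟩
    have hBM : stabilizer G S.C ≤ M := (stab_le_panelStab S.C_mem k₀).trans (hle S.C_mem hk₀)
    refine eq_top_iff.2 fun g _ => ?_
    obtain ⟨m, hm, b, hb, e⟩ := S.exists_smul_of_moved hmove (S.U_le_stab.trans hBM)
      (fun b hb k => by
        by_cases hk : k ∈ L
        · obtain ⟨g', hg', hne⟩ := exists_mover_atom hT hb hk
          exact ⟨g', hle hb hk hg', b, hb, hg', hne⟩
        · obtain ⟨b', hb', hmem, hne⟩ := hT.thin_ne b hb k hk
          exact ⟨1, one_mem _, b', hb', by rwa [one_smul], by rwa [one_smul]⟩) (g • S.C)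
    have h1 : g • S.C = m • S.C := S.smul_eq_of_stab_eq (by
      rw [e, stabilizer_smul_eq_stabilizer_map_conj, S.Bs_stab b hb,
        ← stabilizer_smul_eq_stabilizer_map_conj])
    have h2 : m⁻¹ * g ∈ stabilizer G S.C :=
      mem_stabilizer_iff.2 (by rw [mul_smul, h1, inv_smul_smul])
    simpa using mul_mem hm (hBM h2)
  · rintro _ ⟨b, hb, k, hk, rfl⟩
    rcases hlab b hb k with ⟨b', hb', hmem, hne⟩ | ⟨P, u, hu, hu1, hP, hfixu⟩
    · exact absurd (hT.lab 1 b hb b' hb' k hk (by rwa [one_smul])) hne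
    refine ⟨P, fun e => hu1 ?_, ?_⟩
    · obtain ⟨g, b₀, hb₀, hx⟩ := S.x₀_mem
      refine S.U_free u hu ?_
      have h1 : u ∈ stabilizer G (g • S.C) := mem_stabilizer_iff.2 (hfixu g (by simp [e]))
      rw [stabilizer_smul_eq_stabilizer_map_conj, ← S.Bs_stab b₀ hb₀,
        ← stabilizer_smul_eq_stabilizer_map_conj, ← hx] at h1
      exact h1
    · rintro _ ⟨b', hb', k', hk', rfl⟩ hne g hg
      refine hP g ⟨Or.inr ⟨b', hb', b', hb', k', hg⟩, fun b'' hb'' hmem => ?_⟩
      obtain rfl := hT.lab g b hb b'' hb'' k hk hmem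
      by_contra hmoved
      exact hne (eq_of_common hb' hb'' hg hmem fun h => hmoved ((fix_iff hb'').2 h))

/-- Two panel stabilisers commute when the galleries of the two types can be exchanged. -/
theorem mul_subset {L : Set K} (hT : S.Thick L) {b : X} (hb : b ∈ S.Bs) {j k : K} (hk : k ∈ L)
    (h : ∀ x ∈ S.panel j b, ∀ y ∈ S.panel k x, ∃ z ∈ S.panel k b, y ∈ S.panel j z) :
    (S.panelStab j b : Set G) * (S.panelStab k b : Set G) ⊆
      (S.panelStab k b : Set G) * (S.panelStab j b : Set G) := by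
  rintro _ ⟨g, hg, g', hg', rfl⟩
  obtain ⟨z, hz, hy⟩ := h _ hg ((g * g') • b) (by rw [mul_smul]; exact S.smul_mem g hg')
  obtain ⟨a, b', hb', rfl⟩ := S.exists_base z
  obtain rfl := hT.lab a b hb b' hb' k hk hz
  refine ⟨a, hz, a⁻¹ * (g * g'), ?_, mul_inv_cancel_left _ _⟩
  show (a⁻¹ * (g * g')) • b' ∈ S.panel j b'
  have h1 := S.smul_mem a⁻¹ hy
  rwa [inv_smul_smul, ← mul_smul] at h1

/-- Two panel stabilisers do not commute when some gallery cannot be exchanged. -/
theorem not_comm_of {L : Set K} (hT : S.Thick L) {b : X} (hb : b ∈ S.Bs) {j k : K} (hj : j ∈ L)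
    (hk : k ∈ L) {x y : X} (hx : x ∈ S.panel j b) (hy : y ∈ S.panel k x)
    (hno : ∀ z ∈ S.panel k b, y ∉ S.panel j z) : ¬ Comm (S.panelStab j b) (S.panelStab k b) := by
  intro hc
  obtain ⟨g, b', hb', rfl⟩ := S.exists_base x
  obtain rfl := hT.lab g b hb b' hb' j hj hx
  obtain ⟨t, b'', hb'', rfl⟩ := S.exists_base y
  have h1 := S.smul_mem g⁻¹ hy
  rw [inv_smul_smul, ← mul_smul] at h1
  obtain rfl := hT.lab _ b' hb b'' hb'' k hk h1
  have hmem : g * (g⁻¹ * t) ∈ (S.panelStab j b'' : Set G) * (S.panelStab k b'' : Set G) :=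
    ⟨g, hx, g⁻¹ * t, h1, rfl⟩
  rw [show (_ : Set G) = _ from hc, mul_inv_cancel_left] at hmem
  obtain ⟨a, ha, c, hc', rfl⟩ := hmem
  exact hno _ ha (by rw [mul_smul]; exact S.smul_mem a hc')

/-- The order of a panel stabiliser. -/
theorem card_panelStab (hBs : S.Bs = {S.C}) (k : K) :
    Nat.card (S.panelStab k S.C) = (S.panel k S.C).ncard * Nat.card (stabilizer G S.C) := by
  set A := S.panelStab k S.C
  have horb : MulAction.orbit A S.C = S.panel k S.C := by
    ext y
    constructor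
    · rintro ⟨g, rfl⟩; exact g.2
    · intro hy
      obtain ⟨g, b, hb, rfl⟩ := S.exists_base y
      rw [hBs, Set.mem_singleton_iff] at hb
      subst hb
      exact ⟨⟨g, hy⟩, rfl⟩
  have hst : stabilizer A S.C = (stabilizer G S.C).subgroupOf A := rfl
  rw [← Nat.card_congr (MulAction.orbitProdStabilizerEquivGroup A S.C), Nat.card_prod,
    Nat.card_coe_set_eq, horb, hst,
    Nat.card_congr (Subgroup.subgroupOfEquivOfLe (stab_le_panelStab S.C_mem k)).toEquiv]

/-- The image in a quotient by a kernel fixing the chambers. -/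
theorem atoms_push {p : ℕ} [Fact p.Prime] {H G X K : Type*} [Group H] [Group G] [MulAction H X]
    [Finite X] [Finite H] [Finite G] (S : Sys p H X K) (π : H →* G) (hπ : Function.Surjective π)
    (hker : ∀ n ∈ π.ker, n • S.C = S.C) {L : Set K} (hT : S.Thick L) (hmove : S.Move)
    (hlab : S.Labels) :
    π.ker ≤ stabilizer H S.C ∧ ∃ U : Sylow p G,
      Subgroup.normalizer ((U : Subgroup G) : Set G) = (stabilizer H S.C).map π ∧
      Atoms (Subgroup.normalizer ((U : Subgroup G) : Set G)) (Subgroup.map π '' S.atomSet L) := by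
  have hk : π.ker ≤ stabilizer H S.C := fun n hn => mem_stabilizer_iff.2 (hker n hn)
  have h : ∀ n ∈ π.ker, ∀ x : X, n • x = x := fun n hn x => S.fix_all_of_fix_C hker hn x
  letI := Sys.quotAct π hπ h
  have hact : ∀ (a : H) (x : X), π a • x = a • x := fun a x => Sys.quotAct_smul a x
  set S' := S.push π hπ hact
  obtain ⟨U, hU⟩ := S'.exists_sylow_eq_U
  have e : Subgroup.normalizer ((U : Subgroup G) : Set G) = (stabilizer H S.C).map π := by
    rw [hU, S'.normalizer_U]
    ext g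
    constructor
    · intro hg
      obtain ⟨a, rfl⟩ := hπ g
      exact ⟨a, mem_stabilizer_iff.2 ((hact a _).symm.trans (mem_stabilizer_iff.1 hg)), rfl⟩
    · rintro ⟨a, ha, rfl⟩
      exact mem_stabilizer_iff.2 ((hact a _).trans ha)
  exact ⟨hk, U, e, by rw [e]; exact (S.atoms hT hmove hlab).map hπ hk⟩

end Cfsg.Agent.Lib.LieChambers.Sys
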