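import Cfsg.Agent.Lib.LieChambers.TitsBN
import Cfsg.Agent.Lib.PMinLie.SysAtoms
import Cfsg.Agent.Lib.PMinLie.Geom

/-!
Minimal parabolic subgroups of a split (B, N)-pair; two of them commute exactly when their reflections
commute in the Weyl group.
-/

set_option autoImplicit false
set_option linter.unusedSectionVars false
set_option linter.style.haveILetI false

namespace Cfsg.Agent.Lib.PMinLie

open MulAction
open scoped Pointwise
open Cfsg.Agent.Lib.BNPair.Basic
open Cfsg.Agent.Lib.LieChambers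

variable {G : Type*} [Group G] {P : Cfsg.BNPair G}

theorem mul_subset_swap {s t : G} (hs : s ∈ P.S) (ht : t ∈ P.S) (hst : s ≠ t)
    (h : SameW P (s * t) (t * s)) :
    (P.parabolic {s} : Set G) * (P.parabolic {t} : Set G) ⊆
      (P.parabolic {t} : Set G) * (P.parabolic {s} : Set G) := by
  rintro _ ⟨x, hx, y, hy, rfl⟩
  rcases parabolic_single hs hx with hxB | hxC
  · exact ⟨x * y, mul_mem (B_le_parabolic _ hxB) hy, 1, one_mem _, mul_one _⟩
  rcases parabolic_single ht hy with hyB | hyC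
  · exact ⟨1, one_mem _, x * y, mul_mem hx (B_le_parabolic _ hyB), one_mul _⟩
  obtain ⟨a, ha, b, hb, rfl⟩ := mem_cell_iff.1 hxC
  obtain ⟨c, hc, d, hd, rfl⟩ := mem_cell_iff.1 hyC
  have hlen : len P t ≤ len P (s * t) := by
    rw [len_S ht]
    refine Nat.one_le_iff_ne_zero.2 fun e => hst ?_
    have hB := (len_eq_zero_iff (P.N.mul_mem (S_subset_N hs) (S_subset_N ht))).1 e
    refine P.inj s hs t ht ?_
    have h1 : s⁻¹ * t = (s * s)⁻¹ * (s * t) := by group
    rw [h1]
    exact mul_mem (inv_mem (P.sq_mem s hs)) hB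
  have hmid := mul_mem_cell_of_le (b := b * c) hs (S_subset_N ht) hlen (mul_mem hb hc)
  rw [cell_eq_of_sameW (sameW_symm h)] at hmid
  obtain ⟨u, hu, v, hv, e⟩ := mem_cell_iff.1 hmid
  refine ⟨a * u * t, mul_mem (B_le_parabolic _ (mul_mem ha hu)) (mem_parabolic_of_mem rfl),
    s * v * d, mul_mem (mul_mem (mem_parabolic_of_mem rfl) (B_le_parabolic _ hv))
      (B_le_parabolic _ hd), ?_⟩
  calc a * u * t * (s * v * d) = a * (u * (t * s) * v) * d := by group
    _ = a * s * b * (c * t * d) := by rw [← e]; group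

theorem comm_parabolic {s t : G} (hs : s ∈ P.S) (ht : t ∈ P.S) (h : SameW P (s * t) (t * s)) :
    Comm (P.parabolic {s}) (P.parabolic {t}) := by
  by_cases hst : s = t
  · subst hst; rfl
  · exact Set.Subset.antisymm (mul_subset_swap hs ht hst h)
      (mul_subset_swap ht hs (Ne.symm hst) (sameW_symm h))

theorem not_comm_parabolic {s t : G} (hs : s ∈ P.S) (ht : t ∈ P.S) (hst : s ≠ t)
    (h : ¬ SameW P (s * t) (t * s)) : ¬ Comm (P.parabolic {s}) (P.parabolic {t}) := by
  intro hc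
  have hmem : s * t ∈ (P.parabolic {t} : Set G) * (P.parabolic {s} : Set G) := by
    rw [← show _ = _ from hc]
    exact ⟨s, mem_parabolic_of_mem rfl, t, mem_parabolic_of_mem rfl, rfl⟩
  obtain ⟨y, hy, x, hx, e⟩ := hmem
  have hstN := P.N.mul_mem (S_subset_N hs) (S_subset_N ht)
  have e' : y * x = s * t := e
  have hnot : ¬ s * t ∈ P.parabolic {s} := fun h' => hst (by
    have : t ∈ P.parabolic {s} := by
      have h2 := mul_mem (inv_mem (mem_parabolic_of_mem (P := P) (J := {s}) rfl)) h'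
      rwa [inv_mul_cancel_left] at h2
    exact ((mem_parabolic_S_iff (Set.singleton_subset_iff.2 hs) ht).1 this).symm)
  have hnot' : ¬ s * t ∈ P.parabolic {t} := fun h' => hst (by
    have : s ∈ P.parabolic {t} := by
      have h2 := mul_mem h' (inv_mem (mem_parabolic_of_mem (P := P) (J := {t}) rfl))
      rwa [mul_inv_cancel_right] at h2
    exact (mem_parabolic_S_iff (Set.singleton_subset_iff.2 ht) hs).1 this)
  rcases parabolic_single ht hy with hyB | hyC
  · exact hnot (e' ▸ mul_mem (B_le_parabolic _ hyB) hx)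
  rcases parabolic_single hs hx with hxB | hxC
  · exact hnot' (e' ▸ mul_mem hy (B_le_parabolic _ hxB))
  obtain ⟨a, ha, b, hb, rfl⟩ := mem_cell_iff.1 hyC
  obtain ⟨c, hc', d, hd, rfl⟩ := mem_cell_iff.1 hxC
  have hlen : len P s ≤ len P (t * s) := by
    rw [len_S hs]
    refine Nat.one_le_iff_ne_zero.2 fun e => hst ?_
    have hB := (len_eq_zero_iff (P.N.mul_mem (S_subset_N ht) (S_subset_N hs))).1 e
    refine (P.inj t ht s hs ?_).symm
    have h1 : t⁻¹ * s = (t * t)⁻¹ * (t * s) := by group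
    rw [h1]
    exact mul_mem (inv_mem (P.sq_mem t ht)) hB
  have hmid := mul_mem_cell_of_le (b := b * c) ht (S_subset_N hs) hlen (mul_mem hb hc')
  have h2 : s * t ∈ cell P (t * s) := by
    rw [← e', show a * t * b * (c * s * d) = a * (t * (b * c) * s) * d by group]
    exact mul_mem_cell_right hd (mul_mem_cell_left ha hmid)
  exact h (sameW_of_mem_cell hstN (P.N.mul_mem (S_subset_N ht) (S_subset_N hs)) (mem_cell_self _) h2)

/-- The minimal parabolic subgroups. -/
def minParabolics (P : Cfsg.BNPair G) : Set (Subgroup G) := (fun s => P.parabolic {s}) '' P.S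

theorem ncard_minParabolics : (minParabolics P).ncard = P.S.ncard :=
  Set.InjOn.ncard_image fun _ ha _ hb e => Set.singleton_eq_singleton_iff.1
    (parabolic_injective (Set.singleton_subset_iff.2 ha) (Set.singleton_subset_iff.2 hb) e)

theorem hasDegrees_bn {e f g f₁ f₂ : G} (he : e ∈ P.S) (hf : f ∈ P.S) (hg : g ∈ P.S) (hf₁ : f₁ ∈ P.S)
    (hf₂ : f₂ ∈ P.S) (hone : ∀ a ∈ P.S, a ≠ f → SameW P (e * a) (a * e)) (hne : f₁ ≠ f₂)
    (h1 : ¬ SameW P (g * f₁) (f₁ * g)) (h2 : ¬ SameW P (g * f₂) (f₂ * g)) :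
    HasDegrees (minParabolics P) := by
  refine ⟨_, ⟨e, he, rfl⟩, _, ⟨f, hf, rfl⟩, _, ⟨g, hg, rfl⟩, _, ⟨f₁, hf₁, rfl⟩, _, ⟨f₂, hf₂, rfl⟩,
    ?_, fun h => hne (Set.singleton_eq_singleton_iff.1 (parabolic_injective
      (Set.singleton_subset_iff.2 hf₁) (Set.singleton_subset_iff.2 hf₂) h)),
    not_comm_parabolic hg hf₁ (fun h => h1 (h ▸ sameW_refl _)) h1,
    not_comm_parabolic hg hf₂ (fun h => h2 (h ▸ sameW_refl _)) h2⟩
  rintro _ ⟨a, ha, rfl⟩ hne'
  exact comm_parabolic he ha (hone a ha fun h => hne' (by rw [h]))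

variable {p : ℕ} [Fact p.Prime] [Finite G]

/-- The atoms in a group isomorphic to a group with a split (B, N)-pair. -/
theorem atoms_bn (D : BNData p P) (hS : P.S.Nonempty) {K : Type*} [Group K] [Finite K] (e : K ≃* G)
    (hrad : ∀ s ∈ P.S, ∃ u ∈ D.U, u ≠ 1 ∧ ∀ g ∈ P.parabolic (P.S \ {s}), g⁻¹ * u * g ∈ P.B) :
    ∃ U : Sylow p K,
      Subgroup.normalizer ((U : Subgroup K) : Set K) = P.B.map e.symm.toMonoidHom ∧
      Atoms (Subgroup.normalizer ((U : Subgroup K) : Set K))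
        (Subgroup.map e.symm.toMonoidHom '' minParabolics P) := by
  haveI : Nonempty P.S := hS.to_subtype
  have hker : ∀ n ∈ e.symm.toMonoidHom.ker, n • (D.sys hS).C = (D.sys hS).C := fun n hn => by
    rw [MonoidHom.mem_ker, MulEquiv.coe_toMonoidHom, EmbeddingLike.map_eq_one_iff] at hn
    rw [hn, one_smul]
  obtain ⟨-, U, hU, hA⟩ := Sys.atoms_push (D.sys hS) e.symm.toMonoidHom e.symm.surjective hker
    ((D.sys hS).thick_univ rfl) (D.move hS) (D.labels hS hrad)
  have hst : stabilizer G (QuotientGroup.mk 1 : G ⧸ P.B) = P.B := by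
    ext g
    rw [mem_stabilizer_iff, MulAction.Quotient.smul_mk, smul_eq_mul, mul_one, QuotientGroup.eq,
      mul_one, inv_mem_iff]
  have hpan : ∀ s : P.S, (D.sys hS).panelStab s (QuotientGroup.mk 1 : G ⧸ P.B) = P.parabolic {(s : G)} := by
    intro s
    ext g
    show g • (QuotientGroup.mk 1 : G ⧸ P.B) ∈ panelB s (QuotientGroup.mk 1) ↔ _
    rw [MulAction.Quotient.smul_mk, smul_eq_mul, mul_one, mem_panelB, inv_one, one_mul]
  have hset : (D.sys hS).atomSet Set.univ = minParabolics P := by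
    ext A
    constructor
    · rintro ⟨b, hb, s, -, rfl⟩
      obtain rfl := Set.mem_singleton_iff.1 hb
      exact ⟨s, s.2, (hpan s).symm⟩
    · rintro ⟨s, hs, rfl⟩
      exact ⟨_, rfl, ⟨s, hs⟩, trivial, (hpan ⟨s, hs⟩).symm⟩
  refine ⟨U, hU.trans (congrArg _ hst), ?_⟩
  rw [← hset]
  exact hA

/-- The shape from degrees. -/
theorem geom_of_degrees (D : BNData p P) (hS : P.S.Nonempty) {K : Type*} [Group K] [Finite K]
    (e : K ≃* G)
    (hrad : ∀ s ∈ P.S, ∃ u ∈ D.U, u ≠ 1 ∧ ∀ g ∈ P.parabolic (P.S \ {s}), g⁻¹ * u * g ∈ P.B)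
    (hd : HasDegrees (minParabolics P)) : Geom p K := by
  obtain ⟨U, -, hA⟩ := atoms_bn D hS e hrad
  refine ⟨U, _, hA, Or.inr (Or.inr (HasDegrees.hasNonTwins hA (hd.map fun A hA' x hx => ?_)))⟩
  rw [MonoidHom.mem_ker, MulEquiv.coe_toMonoidHom, EmbeddingLike.map_eq_one_iff] at hx
  exact hx ▸ one_mem _

end Cfsg.Agent.Lib.PMinLie
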