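import Cfsg.Agent.Lib.LieChambers.TitsChev
import Cfsg.Agent.Lib.ChevAut.Steinberg
import Cfsg.Agent.Lib.LieTwisted.Twist.RankTwoCent
import Cfsg.Agent.Lib.LieTwisted.Twist.F4Out
import Cfsg.Agent.Lib.LieTwisted.Twist.D4Thms
import Cfsg.Agent.Lib.LieTwisted.Twist.E6Thms
import Cfsg.Agent.Lib.LieTwisted.Twist.F4Thms
import Cfsg.Agent.Lib.PMinLie.BNAtoms

/-!
The atoms above the Borel subgroup of a Chevalley or twisted Chevalley group: which of them commute,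
and which have different orders.
-/

set_option autoImplicit false
set_option linter.unusedSectionVars false
set_option linter.style.haveILetI false
set_option maxRecDepth 100000

namespace Cfsg.Agent.Lib.PMinLie

open Cfsg.Lie
open Cfsg.Agent.Lib.ChevStructure
open Cfsg.Agent.Lib.ChevAut (cart)
open Cfsg.Agent.Lib.LieChambers
open Cfsg.Agent.Lib.BNPair.Basic (SameW)
open scoped MatrixGroups

variable {D : ChevalleyDatum} {C : Core D} {F : Type*} [Field F]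

section Weyl

variable (C)

theorem sref_comm {i j : Fin D.rank} (hij : cart D i j = 0) (hji : cart D j i = 0) :
    C.sref i * C.sref j = C.sref j * C.sref i := by
  rw [ChevAut.cart_eq C] at hij hji
  refine Equiv.ext fun r => C.v_inj (funext fun k => ?_)
  simp only [Equiv.Perm.mul_apply, Core.sref_apply, C.v_w, C.A_w, hij, hji, Pi.sub_apply,
    Pi.smul_apply, smul_eq_mul, mul_zero, sub_zero]
  ring

theorem sref_not_comm {i j : Fin D.rank} (hne : i ≠ j) (hij : cart D i j ≠ 0) :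
    C.sref i * C.sref j ≠ C.sref j * C.sref i := by
  rw [ChevAut.cart_eq C] at hij
  intro e
  have h := congrArg (fun σ : Equiv.Perm (Rt D) => C.v (σ (C.p j)) i) e
  simp only [Equiv.Perm.mul_apply, Core.sref_apply, C.v_w, C.A_w, C.A_p, C.v_p, Pi.sub_apply,
    Pi.smul_apply, smul_eq_mul, Pi.single_eq_same, Pi.single_eq_of_ne hne] at h
  apply hij
  linarith

theorem sameW_acts {n m : GL D.Idx F} {σ τ : Equiv.Perm (Rt D)} (hn : C.Acts n σ) (hm : C.Acts m τ)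
    (hnN : n ∈ D.monomialSubgroup F) (hmN : m ∈ D.monomialSubgroup F) :
    n⁻¹ * m ∈ D.borelSubgroup F ↔ σ = τ := by
  constructor
  · intro h
    have hd : n⁻¹ * m ∈ D.diagonalSubgroup F := by
      rw [← C.borel_inf_monomial]; exact Subgroup.mem_inf.2 ⟨h, mul_mem (inv_mem hnN) hmN⟩
    exact inv_mul_eq_one.1 (C.acts_unique F (C.acts_mul F (C.acts_inv F hn) hm) (C.acts_diagonal hd))
  · rintro rfl
    refine C.diagonal_le_borel (C.mem_diagonal_of_acts_one (mul_mem (inv_mem hnN) hmN) ?_)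
    simpa using C.acts_mul F (C.acts_inv F hn) hm

end Weyl

/-- The representative of the fundamental reflection in the Chevalley group. -/
def sgen (C : Core D) (F : Type*) [Field F] (i : Fin D.rank) : ↥(D.group F) := ⟨C.P F i, C.P_mem_group _⟩

theorem sgen_mem_S (H : CommOK C) (i : Fin D.rank) : sgen C F i ∈ (H.bnPair F).S :=
  ⟨i, i.2, (C.nMat_one i).symm⟩

theorem exists_sgen (H : CommOK C) {s : ↥(D.group F)} (hs : s ∈ (H.bnPair F).S) :
    ∃ i, s = sgen C F i := by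
  obtain ⟨i, hi⟩ := C.S_eq hs
  exact ⟨i, Subtype.ext hi⟩

theorem acts_P (i : Fin D.rank) : C.Acts (C.P F i) (C.sref i) := by
  simpa [Core.wprod, Core.pprod] using C.acts_wprod F [i]

theorem sameW_sgen (H : CommOK C) (i j : Fin D.rank) :
    SameW (H.bnPair F) (sgen C F i * sgen C F j) (sgen C F j * sgen C F i) ↔
      C.sref i * C.sref j = C.sref j * C.sref i :=
  sameW_acts C (C.acts_mul F (acts_P i) (acts_P j)) (C.acts_mul F (acts_P j) (acts_P i))
    (mul_mem (C.P_mem_monomial i) (C.P_mem_monomial j)) (mul_mem (C.P_mem_monomial j) (C.P_mem_monomial i))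

theorem sgen_injective (_H : CommOK C) : Function.Injective (sgen C F) := by
  intro i j e
  have e' : C.P F i = C.P F j := congrArg Subtype.val e
  have h1 : C.sref i = C.sref j := C.acts_unique F (acts_P (C := C) (F := F) i)
    (e'.symm ▸ acts_P (C := C) (F := F) j)
  by_contra hne
  have h2 := congrArg (fun σ : Equiv.Perm (Rt D) => C.v (σ (C.p j)) j) h1
  simp only [Core.sref_apply, C.v_w, C.A_p, C.v_p, Pi.sub_apply, Pi.smul_apply, smul_eq_mul,
    Pi.single_eq_same, Pi.single_eq_of_ne' hne] at h2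
  simp at h2

variable [Fintype F] (p : ℕ) [Fact p.Prime] [CharP F p]

theorem hrad_chev (H : CommOK C) (d : BNData p (H.bnPair F)) :
    ∀ s ∈ (H.bnPair F).S, ∃ u ∈ d.U, u ≠ 1 ∧
      ∀ g ∈ (H.bnPair F).parabolic ((H.bnPair F).S \ {s}), g⁻¹ * u * g ∈ (H.bnPair F).B := by
  intro s hs
  obtain ⟨i, hi⟩ := C.S_eq hs
  set J : Set ℕ := {j | j < D.rank ∧ j ≠ (i : ℕ)} with hJ
  have hmem : C.p i ∈ C.UJ J := ⟨C.p_pos i, fun h => by
    have := C.mem_PJ.1 h i fun h' => h'.2 rfl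
    simp [C.co_p] at this⟩
  have hle : (H.bnPair F).parabolic ((H.bnPair F).S \ {s}) ≤
      (D.parabolicSubgroup F J).subgroupOf (D.group F) := by
    refine sup_le (fun b hb => C.borel_le_parabolic J (show (b : GL D.Idx F) ∈ _ from hb))
      ((Subgroup.closure_le _).2 ?_)
    rintro x ⟨hx, hxs⟩
    obtain ⟨j, hj⟩ := C.S_eq hx
    show (x : GL D.Idx F) ∈ D.parabolicSubgroup F J
    rw [hj]
    refine C.P_mem_parabolic ⟨j.2, fun h => hxs (Set.mem_singleton_iff.2 (Subtype.ext ?_))⟩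
    rw [hj, hi, Fin.ext h]
  have hX : C.X F (C.p i) 1 ∈ C.US F (C.UJ J) := C.X_mem_US F hmem 1
  refine ⟨⟨C.X F (C.p i) 1, C.X_mem_group _ _⟩, ?_, fun h => one_ne_zero (α := F)
    (C.X_eq_one (congrArg Subtype.val h)), fun g hg => conj_mem_borel_of_UJ H (hle hg) hX⟩
  obtain ⟨j, hj⟩ := exists_pow_eq_one p H (C.X_mem_US F (C.p_pos i) (1 : F))
  exact d.pel _ (C.X_mem_borel (C.p_pos i) 1) ⟨j, Subtype.ext hj⟩

/-- Degrees in a Cartan matrix. -/
def DegreeOK (D : ChevalleyDatum) : Prop :=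
  ∃ e f g f₁ f₂ : Fin D.rank, (∀ a, a ≠ f → a ≠ e → cart D e a = 0 ∧ cart D a e = 0) ∧ f₁ ≠ f₂ ∧
    g ≠ f₁ ∧ g ≠ f₂ ∧ cart D g f₁ ≠ 0 ∧ cart D g f₂ ≠ 0

instance (D : ChevalleyDatum) : Decidable (DegreeOK D) := by unfold DegreeOK; infer_instance

theorem geom_chev (H : CommOK C) (hdeg : DegreeOK D) {G : Type*} [Group G] [Finite G]
    (e : G ≃* ↥(D.group F)) : Geom p G := by
  obtain ⟨n0, f, g, f₁, f₂, hone, hne, hg1, hg2, h1, h2⟩ := hdeg
  obtain ⟨d⟩ := nonempty_bnData H (F := F) p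
  haveI : Finite (GL D.Idx F) := inferInstance
  refine geom_of_degrees d ⟨_, sgen_mem_S H n0⟩ e (hrad_chev p H d) (hasDegrees_bn (sgen_mem_S H n0)
    (sgen_mem_S H f) (sgen_mem_S H g) (sgen_mem_S H f₁) (sgen_mem_S H f₂) ?_
    (fun h => hne (sgen_injective H h))
    (fun h => sref_not_comm C hg1 h1 ((sameW_sgen H g f₁).1 h))
    (fun h => sref_not_comm C hg2 h2 ((sameW_sgen H g f₂).1 h)))
  intro a ha hne'
  obtain ⟨i, rfl⟩ := exists_sgen H ha
  refine (sameW_sgen H n0 i).2 ?_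
  by_cases hi : i = n0
  · rw [hi]
  · obtain ⟨h3, h4⟩ := hone i (fun h => hne' (by rw [h])) hi
    exact sref_comm C h3 h4

theorem degreeOK_F4 : DegreeOK chevF4 :=
  ⟨⟨0, by decide⟩, ⟨1, by decide⟩, ⟨1, by decide⟩, ⟨0, by decide⟩, ⟨2, by decide⟩, by decide +kernel⟩

theorem degreeOK_E6 : DegreeOK chevE6 :=
  ⟨⟨0, by decide⟩, ⟨2, by decide⟩, ⟨3, by decide⟩, ⟨2, by decide⟩, ⟨4, by decide⟩, by decide +kernel⟩

theorem degreeOK_E7 : DegreeOK chevE7 :=
  ⟨⟨0, by decide⟩, ⟨2, by decide⟩, ⟨3, by decide⟩, ⟨2, by decide⟩, ⟨4, by decide⟩, by decide +kernel⟩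

theorem degreeOK_E8 : DegreeOK chevE8 :=
  ⟨⟨0, by decide⟩, ⟨2, by decide⟩, ⟨3, by decide⟩, ⟨2, by decide⟩, ⟨4, by decide⟩, by decide +kernel⟩

section Twisted

open Cfsg.Agent.Lib.LieTwisted.Twist

variable (T : Tw C F)

theorem hrad_twist (hq : 1 < T.q) (d : BNData p (T.bnPair hq)) :
    ∀ s ∈ (T.bnPair hq).S, ∃ u ∈ d.U, u ≠ 1 ∧
      ∀ g ∈ (T.bnPair hq).parabolic ((T.bnPair hq).S \ {s}), g⁻¹ * u * g ∈ (T.bnPair hq).B := by
  intro s hs
  obtain ⟨m, rfl⟩ := hs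
  obtain ⟨u, hu, huf, hu1⟩ := T.exists_base_ne hq m
  set J : Set ℕ := {j | ∃ h : j < D.rank, T.idx ⟨j, h⟩ ≠ m} with hJ
  have hle : (T.bnPair hq).parabolic ((T.bnPair hq).S \ {T.nS m}) ≤
      (D.parabolicSubgroup F J).subgroupOf T.W := by
    refine sup_le (fun b hb => C.borel_le_parabolic J (T.mem_B1.1 hb))
      ((Subgroup.closure_le _).2 ?_)
    rintro x ⟨⟨a, rfl⟩, hxs⟩
    show T.nO a ∈ D.parabolicSubgroup F J
    have ham : a ≠ m := fun h => hxs (by rw [h]; rfl)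
    have hh : T.nO a * (C.wprod F (T.J a))⁻¹ ∈ D.diagonalSubgroup F := by
      refine C.mem_diagonal_of_acts_one (mul_mem (T.nO_mono a) (inv_mem (C.wprod_mem_monomial _))) ?_
      simpa using C.acts_mul F (T.nO_acts a) (C.acts_inv F (C.acts_wprod F (T.J a)))
    have hw : C.wprod F (T.J a) ∈ D.parabolicSubgroup F J :=
      wprod_mem_parabolic _ fun j hj => ⟨j.2, by rw [(T.mem_J j a).1 hj]; exact ham⟩
    have h1 := mul_mem (C.borel_le_parabolic J (C.diagonal_le_borel hh)) hw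
    rwa [inv_mul_cancel_right] at h1
  have hsub : C.inv' (T.wO m) ⊆ C.UJ J := fun r hr => ⟨hr.1, fun hP => by
    obtain ⟨j, hj⟩ : ∃ j, C.v r j ≠ 0 := by
      by_contra hc
      push Not at hc
      have := C.ht_pos hr.1
      rw [Core.ht, show C.v r = 0 from funext hc] at this
      simp [phi] at this
    refine hj (C.v_zero_of_PJ hP fun h => ?_)
    obtain ⟨h', hne⟩ := h
    exact hne (T.inv'_supp m hr hj)⟩
  have huW : u ∈ T.W := T.base_mem m u hu huf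
  have hX : u ∈ C.US F (C.UJ J) := C.US_mono F hsub hu
  refine ⟨⟨u, huW⟩, ?_, fun h => hu1 (congrArg Subtype.val h), fun g hg =>
    T.mem_B1.2 (conj_mem_borel_of_UJ T.comm (hle hg) hX)⟩
  refine d.pel _ (T.mem_B1.2 (C.posUS_le_borel (C.US_mono F (fun _ h => h.1) hu))) ?_
  obtain ⟨j, hj⟩ := exists_pow_eq_one p T.comm (C.US_mono F (fun _ h => h.1) hu)
  exact ⟨j, Subtype.ext hj⟩

theorem sameW_nS (hq : 1 < T.q) (a b : Fin T.nn) :
    SameW (T.bnPair hq) (T.nS a * T.nS b) (T.nS b * T.nS a) ↔ T.wO a * T.wO b = T.wO b * T.wO a := by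
  refine T.mem_B1.trans ?_
  exact sameW_acts C (C.acts_mul F (T.nO_acts a) (T.nO_acts b)) (C.acts_mul F (T.nO_acts b) (T.nO_acts a))
    (mul_mem (T.nO_mono a) (T.nO_mono b)) (mul_mem (T.nO_mono b) (T.nO_mono a))

theorem nS_injective (_hq : 1 < T.q) : Function.Injective T.nS := fun a b h =>
  T.nS_inj (by rw [h, inv_mul_cancel]; exact one_mem _)

theorem geom_twist_degrees (hq : 1 < T.q) {e f g f₁ f₂ : Fin T.nn}
    (hone : ∀ a, a ≠ f → T.wO e * T.wO a = T.wO a * T.wO e) (hne : f₁ ≠ f₂)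
    (h1 : T.wO g * T.wO f₁ ≠ T.wO f₁ * T.wO g) (h2 : T.wO g * T.wO f₂ ≠ T.wO f₂ * T.wO g)
    {G : Type*} [Group G] [Finite G] (i : G ≃* ↥T.W) : Geom p G := by
  obtain ⟨d⟩ := nonempty_bnData_twist T p hq
  haveI : Finite (GL D.Idx F) := inferInstance
  refine geom_of_degrees d ⟨_, e, rfl⟩ i (hrad_twist p T hq d) (hasDegrees_bn (P := T.bnPair hq)
    ⟨e, rfl⟩ ⟨f, rfl⟩ ⟨g, rfl⟩ ⟨f₁, rfl⟩ ⟨f₂, rfl⟩ ?_ (fun h => hne (nS_injective T hq h))
    (fun h => h1 ((sameW_nS T hq g f₁).1 h)) (fun h => h2 ((sameW_nS T hq g f₂).1 h)))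
  rintro _ ⟨a, rfl⟩ hne'
  exact (sameW_nS T hq e a).2 (hone a fun h => hne' (by rw [h]))

theorem geom_twist_lengths (hq : 1 < T.q) {a b : Fin T.nn}
    (hab : C.len (T.wO a) / T.d ≠ C.len (T.wO b) / T.d)
    {G : Type*} [Group G] [Finite G] (i : G ≃* ↥T.W) : Geom p G := by
  obtain ⟨d⟩ := nonempty_bnData_twist T p hq
  haveI : Finite (GL D.Idx F) := inferInstance
  obtain ⟨U, -, hA⟩ := atoms_bn d ⟨_, a, rfl⟩ i (hrad_twist p T hq d)
  refine ⟨U, _, hA, Or.inr (Or.inr ⟨_, ⟨_, ⟨T.nS a, ⟨a, rfl⟩, rfl⟩, rfl⟩,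
    _, ⟨_, ⟨T.nS b, ⟨b, rfl⟩, rfl⟩, rfl⟩, not_twins_of_card ?_⟩)⟩
  intro h
  rw [Subgroup.card_map_of_injective (f := i.symm.toMonoidHom) i.symm.injective,
    Subgroup.card_map_of_injective (f := i.symm.toMonoidHom) i.symm.injective] at h
  change Nat.card ↥(T.Qm hq a) = Nat.card ↥(T.Qm hq b) at h
  rw [T.card_Qm hq, T.card_Qm hq] at h
  have hB : 0 < Nat.card ↥T.B1 := Nat.card_pos
  exact hab (Nat.pow_right_injective hq (by
    show T.q ^ _ = T.q ^ _
    have := Nat.eq_of_mul_eq_mul_left hB h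
    omega))

theorem geom_twistedE6 {K : Type*} [Field K] [Fintype K] [CharP K p] {q : ℕ} (hq : IsPrimePow q)
    (hK : Fintype.card K = q ^ 2) {G : Type*} [Group G] [Finite G]
    (e : G ≃* ↥(Cfsg.Lie.twistedE6 K q)) : Geom p G := by
  obtain ⟨φ, Fc, h⟩ := E6.exists_model hq hK
  have hJ := E6.Js_spec Fc hq.one_lt hK
  set T := (E6.orth Fc hq.one_lt hK).tw with hT
  have hnc : ∀ a b : Fin 4, ncOK Data.E6.fast E6.Js a.val b.val = true → T.wO a * T.wO b ≠ T.wO b * T.wO a :=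
    fun a b h => nc_of_ncOK Cert.E6.certified T E6.Js hJ h
  have hrel : ∀ a : Fin 4, relOK Data.E6.fast E6.Js a.val a.val 1 = true := by decide +kernel
  have hone : ∀ a : Fin 4, a ≠ 1 → relOK Data.E6.fast E6.Js 0 a.val 2 = true := by decide +kernel
  have hg : ncOK Data.E6.fast E6.Js 1 0 = true ∧ ncOK Data.E6.fast E6.Js 1 2 = true := by decide +kernel
  refine geom_twist_degrees p T hq.one_lt (e := (0 : Fin 4)) (f := (1 : Fin 4)) (g := (1 : Fin 4))
    (f₁ := (0 : Fin 4)) (f₂ := (2 : Fin 4)) (fun a ha => ?_) (fun h => absurd h (by decide : (0 : Fin 4) ≠ 2))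
    (hnc 1 0 hg.1) (hnc 1 2 hg.2) (e.trans (MulEquiv.subgroupCongr h.symm))
  have h2 := rel_of_relOK Cert.E6.certified T E6.Js hJ (a := (0 : Fin 4)) (b := a) (hone a ha)
  rw [pow_two, mul_eq_one_iff_eq_inv, mul_inv_rev] at h2
  have hinv : ∀ b : Fin T.nn, (T.wO b)⁻¹ = T.wO b := fun b => inv_eq_of_mul_eq_one_right (T.J_inv b)
  exact h2.trans (congrArg₂ (· * ·) (hinv a) (hinv _))

theorem geom_twistedD4 {K : Type*} [Field K] [Fintype K] [CharP K p] {q : ℕ} (hq : IsPrimePow q)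
    (hK : Fintype.card K = q ^ 3) {G : Type*} [Group G] [Finite G]
    (e : G ≃* ↥(Cfsg.Lie.twistedD4 K q)) : Geom p G := by
  obtain ⟨φ, Fc, h⟩ := D4.exists_model hq hK
  refine geom_twist_lengths p (D4.orth Fc hq.one_lt hK).tw hq.one_lt (a := (0 : Fin 2)) (b := (1 : Fin 2)) ?_
    (e.trans (MulEquiv.subgroupCongr h.symm))
  obtain ⟨h0, h1⟩ := D4.sz_os Fc hq.one_lt hK
  have hl : ∀ m : Fin (D4.orth Fc hq.one_lt hK).nn,
      D4.C.len (D4.C.pprod ((D4.orth Fc hq.one_lt hK).Jl m)) / (D4.orth Fc hq.one_lt hK).tw.d =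
        (D4.orth Fc hq.one_lt hK).sz ((D4.orth Fc hq.one_lt hK).os m) / 1 := fun m =>
    congrArg (· / 1) ((D4.orth Fc hq.one_lt hK).len_Jl m)
  intro he
  have e2 := ((hl (0 : Fin 2)).symm.trans he).trans (hl (1 : Fin 2))
  change (D4.orth Fc hq.one_lt hK).sz (D4.osD 0) / 1 = (D4.orth Fc hq.one_lt hK).sz (D4.osD 1) / 1 at e2
  rw [h0, h1] at e2
  exact absurd e2 (by decide)

theorem geom_twistedF4 {K : Type} [Field K] [Fintype K] {m : ℕ} [Fact (Nat.Prime 2)]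
    (hK : Fintype.card K = 2 ^ (2 * m + 1)) {G : Type*} [Group G] [Finite G]
    (e : G ≃* ↥(Cfsg.Lie.twistedF4 K (2 ^ m))) : Geom 2 G := by
  haveI : CharP K 2 := charP_of_card_eq_prime_pow hK
  obtain ⟨θ, Fc⟩ := F4.exists_th hK
  exact geom_twist_lengths 2 (F4.tw Fc) Fintype.one_lt_card (a := (0 : Fin 2)) (b := (1 : Fin 2))
    (fun h => absurd ((F4.rigid Fc).card_inj _ _ h) (by decide : (0 : Fin 2) ≠ 1)) e

end Twisted

end Cfsg.Agent.Lib.PMinLie
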