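import Cfsg.Agent.Lib.LieChambers.TitsFrame
import Cfsg.Agent.Lib.PMinLie.SysAtoms

/-!
Panel stabilisers in the chamber systems of frames: those of neighbouring types do not commute, the
others do.
-/

set_option autoImplicit false
set_option linter.unusedSectionVars false
set_option linter.style.haveILetI false

namespace Cfsg.Agent.Lib.PMinLie

open Module MulAction
open Cfsg.Agent.Lib.Forms
open Cfsg.Agent.Lib.SteinbergChar
open Cfsg.Agent.Lib.SteinbergChar.Frame (partner idx idxSet SPerm)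
open Cfsg.Agent.Lib.LieChambers

variable {F V : Type*} [Field F] [Finite F] [AddCommGroup V] [Module F V] [FiniteDimensional F V]
  {σ : F →+* F} {P : FormPair σ V} {m : ℕ} (Fr : Frame P m)

/-- Galleries of two types which are not neighbours can be exchanged. -/
theorem swap_gallery {b x y : Ch P m} {j k : Fin m} (hjk : (j : ℕ) + 1 ≠ k) (hkj : (k : ℕ) + 1 ≠ j)
    (hne : j ≠ k) (hx : x ∈ panel b ((j : ℕ) + 1)) (hy : y ∈ panel x ((k : ℕ) + 1)) :
    ∃ z ∈ panel b ((k : ℕ) + 1), y ∈ panel z ((j : ℕ) + 1) := by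
  classical
  rw [mem_panel] at hx hy
  have hv : (j : ℕ) ≠ k := fun e => hne (Fin.ext e)
  have hj := j.2
  have hsame : ∀ i ≤ m, i ≠ (j : ℕ) + 1 → i ≠ (k : ℕ) + 1 → y.sp i = b.sp i := fun i hi h1 h2 => by
    rw [hy i hi h2, hx i hi h1]
  let f : ℕ → Submodule F V := fun i => if min i m = (j : ℕ) + 1 then b.sp (min i m) else y.sp (min i m)
  have hf : ∀ i ≤ m, f i = if i = (j : ℕ) + 1 then b.sp i else y.sp i := fun i hi => by
    simp only [f, min_eq_left hi]
  let z : Ch P m :=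
    { sp := f
      dim := fun i hi => by
        by_cases h : i = (j : ℕ) + 1
        · rw [hf i hi, if_pos h, b.dim i hi]
        · rw [hf i hi, if_neg h, y.dim i hi]
      stop := fun i hi => by simp only [f, min_eq_right hi, min_self]
      mono := monotone_nat_of_le_succ fun i => by
        rcases lt_or_ge i m with hi | hi
        · rw [hf i hi.le, hf (i + 1) hi]
          split_ifs with h1 h2 h2
          · omega
          · rw [hsame (i + 1) hi h2 (by omega)]
            exact b.mono (Nat.le_succ i)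
          · rw [hsame i hi.le h1 (by omega)]
            exact b.mono (Nat.le_succ i)
          · exact y.mono (Nat.le_succ i)
        · simp only [f, min_eq_right hi, min_eq_right (hi.trans (Nat.le_succ i)), le_refl]
      ts := by
        rw [hf m le_rfl]
        split_ifs
        exacts [b.ts, y.ts] }
  have hz : ∀ i ≤ m, z.sp i = if i = (j : ℕ) + 1 then b.sp i else y.sp i := fun i hi => by
    exact hf i hi
  refine ⟨z, mem_panel.2 fun i hi hik => ?_, mem_panel.2 fun i hi hij => ?_⟩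
  · rw [hz i hi]
    split_ifs with h
    · rfl
    · exact hsame i hi h hik
  · rw [hz i hi, if_neg hij]

/-- The two galleries of neighbouring types along the apartment cannot be exchanged. -/
theorem apartment_gallery {j k : Fin m} (hjk : (j : ℕ) + 1 = k) :
    ∃ x ∈ panel Fr.C0 ((j : ℕ) + 1), ∃ y ∈ panel x ((k : ℕ) + 1),
      ∀ z ∈ panel Fr.C0 ((k : ℕ) + 1), y ∉ panel z ((j : ℕ) + 1) := by
  classical
  set w₀ : SPerm m := (1, fun _ => false)
  set v := partner j w₀ with hv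
  refine ⟨Fr.ch v, partner_mem Fr w₀ j, Fr.ch (partner k v), partner_mem Fr v k, fun z hz hy => ?_⟩
  have hk := k.2
  have hne : (j : ℕ) + 1 ≠ (k : ℕ) + 1 := by omega
  have h1 : z.sp ((j : ℕ) + 1) = Fr.C ((j : ℕ) + 1) := by
    rw [mem_panel.1 hz _ (by omega) hne, Frame.C0_sp]
  have he : Fr.e j ∈ (Fr.ch (partner k v)).sp ((k : ℕ) + 1) := by
    rw [mem_panel.1 hy _ hk (Ne.symm hne)]
    exact z.mono (by omega) (h1.symm ▸ Fr.e_mem_C (Nat.lt_succ_self _))
  have hjm : (j : ℕ) + 1 < m := by omega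
  have hkeq : (⟨(j : ℕ) + 1, hjm⟩ : Fin m) = k := Fin.ext hjk
  have h2 := coef_ch Fr (t := (j, false)) (w := partner k v) (i := (k : ℕ) + 1) (fun ⟨l, hl, e⟩ => by
    have hl' : (l : ℕ) < (k : ℕ) + 1 := hl
    have key : ∀ l', idx v l' = (j, false) → l' = k := fun l' e' => by
      have e'' : (Equiv.swap j ⟨(j : ℕ) + 1, hjm⟩) l' = j := by
        simpa [v, w₀, partner, hjm, idx] using congrArg Prod.fst e'
      rw [Equiv.swap_apply_eq_iff, Equiv.swap_apply_left] at e''
      rw [e'', hkeq]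
    by_cases hkm : (k : ℕ) + 1 < m
    · have e1 : idx v ((Equiv.swap k ⟨(k : ℕ) + 1, hkm⟩) l) = (j, false) := by
        rw [← e]
        simp [partner, hkm, idx]
      have e2 := key _ e1
      rw [Equiv.swap_apply_eq_iff, Equiv.swap_apply_left] at e2
      rw [e2] at hl'
      simp at hl'
    · have e1 : v.1 l = j ∧ Function.update v.2 k (!v.2 k) l = false := by
        simpa [partner, hkm, idx] using e
      by_cases hlk : l = k
      · subst hlk
        have : v.2 l = false := by simp [v, w₀, partner, hjm]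
        simp [this] at e1
      · rw [Function.update_of_ne hlk] at e1
        exact hlk (key l (Prod.ext e1.1 e1.2))) he
  rw [show Fr.e j = Fr.gen (j, false) by simp [Frame.gen], coef_gen, if_pos rfl] at h2
  exact one_ne_zero h2

variable {p : ℕ} {H : Subgroup P.isom} (S : Sys p H (Ch P m) (Fin m))
  (hpanel : S.panel = fun (k : Fin m) (D : Ch P m) => (panel D ((k : ℕ) + 1) : Set (Ch P m)))
  {L : Set (Fin m)} (hT : S.Thick L)

include hpanel in
theorem mem_sys_panel {k : Fin m} {x y : Ch P m} : y ∈ S.panel k x ↔ y ∈ panel x ((k : ℕ) + 1) := by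
  rw [hpanel]; rfl

include hpanel hT in
theorem comm_panelStab {b : Ch P m} (hb : b ∈ S.Bs) {j k : Fin m} (hj : j ∈ L) (hk : k ∈ L)
    (hjk : (j : ℕ) + 1 ≠ k) (hkj : (k : ℕ) + 1 ≠ j) : Comm (S.panelStab j b) (S.panelStab k b) := by
  by_cases hne : j = k
  · subst hne; rfl
  refine Set.Subset.antisymm (Sys.mul_subset hT hb hk fun x hx y hy => ?_)
    (Sys.mul_subset hT hb hj fun x hx y hy => ?_) <;> simp only [mem_sys_panel S hpanel] at hx hy ⊢
  · exact swap_gallery hjk hkj hne hx hy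
  · exact swap_gallery hkj hjk (Ne.symm hne) hx hy

include hpanel hT in
theorem not_comm_succ (hC : Fr.C0 ∈ S.Bs) {j k : Fin m} (hj : j ∈ L) (hk : k ∈ L)
    (hjk : (j : ℕ) + 1 = k) : ¬ Comm (S.panelStab j Fr.C0) (S.panelStab k Fr.C0) := by
  obtain ⟨x, hx, y, hy, hno⟩ := apartment_gallery Fr hjk
  refine Sys.not_comm_of hT hC hj hk ((mem_sys_panel S hpanel).2 hx) ((mem_sys_panel S hpanel).2 hy) ?_
  intro z hz hy'
  exact hno z ((mem_sys_panel S hpanel).1 hz) ((mem_sys_panel S hpanel).1 hy')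

include hpanel hT in
theorem panelStab_ne {b : Ch P m} (hb : b ∈ S.Bs) {j k : Fin m} (hj : j ∈ L) (hne : j ≠ k) :
    S.panelStab j b ≠ S.panelStab k b := by
  intro e
  obtain ⟨g, hg, hgb⟩ := Sys.exists_mover_atom hT hb hj
  have h1 := (mem_sys_panel S hpanel).1 (S.mem_panelStab.1 hg)
  have h2 := (mem_sys_panel S hpanel).1 (S.mem_panelStab.1 (e ▸ hg))
  refine hgb (Ch.ext' fun i hi => ?_)
  rw [mem_panel] at h1 h2
  by_cases h : i = (j : ℕ) + 1
  · exact h2 i hi fun e' => hne (Fin.ext (by omega))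
  · exact h1 i hi h

include hpanel hT in
/-- The first two types are a leaf and a node with two neighbours. -/
theorem hasDegrees_frame (hm : 3 ≤ m) (hC : Fr.C0 ∈ S.Bs)
    (hL : ∀ k : Fin m, (k : ℕ) ≤ 2 → k ∈ L)
    (heq : ∀ b ∈ S.Bs, ∀ k : Fin m, (k : ℕ) ≤ 1 → S.panelStab k b = S.panelStab k Fr.C0) :
    HasDegrees (S.atomSet L) := by
  set k₀ : Fin m := ⟨0, by omega⟩
  set k₁ : Fin m := ⟨1, by omega⟩
  set k₂ : Fin m := ⟨2, by omega⟩
  have h₀ : k₀ ∈ L := hL _ (Nat.zero_le 2)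
  have h₁ : k₁ ∈ L := hL _ (show 1 ≤ 2 by omega)
  have h₂ : k₂ ∈ L := hL _ (show 2 ≤ 2 by omega)
  have hmem : ∀ {k}, k ∈ L → S.panelStab k Fr.C0 ∈ S.atomSet L := fun hk => ⟨_, hC, _, hk, rfl⟩
  refine ⟨_, hmem h₀, _, hmem h₁, _, hmem h₁, _, hmem h₀, _, hmem h₂, ?_,
    panelStab_ne S hpanel hT hC h₀ (fun e => by simpa [k₀, k₂] using congrArg Fin.val e),
    fun h => not_comm_succ Fr S hpanel hT hC h₀ h₁ rfl h.symm, not_comm_succ Fr S hpanel hT hC h₁ h₂ rfl⟩
  rintro _ ⟨b, hb, k, hk, rfl⟩ hne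
  rw [← heq b hb k₀ (show 0 ≤ 1 by omega)]
  refine comm_panelStab S hpanel hT hb h₀ hk (fun e => hne ?_) (Nat.succ_ne_zero _)
  obtain rfl : k₁ = k := Fin.ext e
  exact heq b hb k₁ le_rfl

include hpanel in
/-- The thin case: the thick labels are all but the last. -/
theorem thin_data {l : Fin m} (hl : (l : ℕ) + 1 = m) (hBs : S.Bs = {Fr.C0, Fr.P0 l})
    (hW : ∀ w, Fr.IsW w → w = 0) (hρ : ∀ r, P.ρ r = 0 → r = 0)
    (hpar : ∀ h ∈ H, (h • Fr.C0).sp m ≠ (Fr.P0 l).sp m) (hm : 2 ≤ m) :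
    S.Thick {k | k ≠ l} ∧ ∀ b ∈ S.Bs, ∀ k : Fin m, (k : ℕ) + 2 < m →
      S.panelStab k b = S.panelStab k Fr.C0 := by
  classical
  have hP0mem : Fr.P0 l ∈ panel Fr.C0 ((l : ℕ) + 1) := Q_last Fr l hl ▸ Q_mem Fr l
  have hP0ne : Fr.P0 l ≠ Fr.C0 := Q_last Fr l hl ▸ Q_ne Fr l
  have hC0two : ∀ Y ∈ panel Fr.C0 ((l : ℕ) + 1), Y = Fr.C0 ∨ Y = Fr.P0 l := fun Y hY =>
    Fr.thin_panel hl hW hρ fun k hk => by
      rw [mem_panel.1 hY k hk.le (by omega), Frame.C0_sp]
  have hmemBs : ∀ b, b ∈ S.Bs ↔ b = Fr.C0 ∨ b = Fr.P0 l := fun b => by rw [hBs]; rfl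
  have hlow : ∀ b ∈ S.Bs, ∀ i < m, b.sp i = Fr.C i := by
    intro b hb i hi
    rcases (hmemBs b).1 hb with rfl | rfl
    · rw [Frame.C0_sp]
    · rw [mem_panel.1 hP0mem i hi.le (by omega), Frame.C0_sp]
  have hpar' : ∀ (h : H), ∀ b ∈ S.Bs, ∀ b' ∈ S.Bs, (h • b').sp m = b.sp m → b' = b := by
    intro h b hb b' hb' e
    rcases (hmemBs b).1 hb with rfl | rfl <;> rcases (hmemBs b').1 hb' with rfl | rfl
    · rfl
    · exfalso
      refine hpar _ (inv_mem h.2) ?_
      rw [Ch.smul_sp, ← e]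
      show (((h : P.isom) • Fr.P0 l).sp m).map _ = _
      rw [← Ch.smul_sp, inv_smul_smul]
    · exact absurd e (hpar _ h.2)
    · rfl
  have hlk : ∀ k : Fin m, k ≠ l → (k : ℕ) + 1 ≠ m := fun k hk e => hk (Fin.ext (by omega))
  have hT : S.Thick {k | k ≠ l} := by
    refine ⟨fun g b hb hgb => (hpar' g (g • b) hgb b hb rfl).symm, fun g b hb b' hb' k hk hmem => ?_,
      fun b hb k hk y hy => ?_, fun b hb k hk => ?_, ⟨⟨0, by omega⟩, fun e => ?_⟩⟩
    · exact hpar' g b hb b' hb'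
        (mem_panel.1 ((mem_sys_panel S hpanel).1 hmem) m le_rfl (Ne.symm (hlk k hk)))
    · obtain rfl : k = l := not_not.1 hk
      have h1 := (mem_sys_panel S hpanel).1 hy
      rcases (hmemBs b).1 hb with rfl | rfl
      · exact (hmemBs y).2 (hC0two y h1)
      · rw [panel_eq_of_mem hP0mem] at h1
        exact (hmemBs y).2 (hC0two y h1)
    · obtain rfl : k = l := not_not.1 hk
      rcases (hmemBs b).1 hb with rfl | rfl
      · exact ⟨_, (hmemBs _).2 (Or.inr rfl), (mem_sys_panel S hpanel).2 hP0mem, hP0ne⟩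
      · refine ⟨_, (hmemBs _).2 (Or.inl rfl), (mem_sys_panel S hpanel).2 ?_, hP0ne.symm⟩
        rw [panel_eq_of_mem hP0mem]
        exact self_mem_panel _ _
    · have := congrArg Fin.val e
      simp at this
      omega
  refine ⟨hT, fun b hb k hk => ?_⟩
  have hkl : k ≠ l := fun e => by subst e; omega
  have hCmem : Fr.C0 ∈ S.Bs := (hmemBs _).2 (Or.inl rfl)
  obtain ⟨h, hh, hhC⟩ := Sys.exists_mover_atom hT hCmem (show k ∈ {k | k ≠ l} from hkl)
  refine (Sys.eq_of_common hCmem hb hh ?_ fun hst => hhC ((Sys.fix_iff hCmem).2 hst)).symm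
  have h1 := mem_panel.1 ((mem_sys_panel S hpanel).1 (S.mem_panelStab.1 hh))
  rw [S.mem_panelStab, mem_sys_panel S hpanel, mem_panel]
  intro i hi hik
  rcases lt_or_eq_of_le hi with hlt | rfl
  · show ((h : P.isom) • b).sp i = _
    rw [Ch.smul_sp, hlow b hb i hlt, ← hlow _ hCmem i hlt, ← Ch.smul_sp]
    exact h1 i hi hik
  · have hl' : (h • b).sp l = Fr.C l := by
      show ((h : P.isom) • b).sp l = _
      rw [Ch.smul_sp, hlow b hb l l.2, ← hlow _ hCmem l l.2, ← Ch.smul_sp]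
      exact (h1 l l.2.le (by omega)).trans rfl
    rcases (hmemBs b).1 hb with rfl | rfl
    · exact h1 _ le_rfl hik
    · exact (top_cases Fr hl hW hρ _ hl').resolve_left fun e =>
        hP0ne (hpar' h _ hCmem _ hb e)

end Cfsg.Agent.Lib.PMinLie
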