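import Cfsg.Agent.Lib.LieChambers.FrameSys

/-!
The sizes of the two kinds of panels of a frame of two hyperbolic pairs.
-/

set_option autoImplicit false
set_option linter.unusedSectionVars false
set_option linter.style.haveILetI false

namespace Cfsg.Agent.Lib.PMinLie

open Module MulAction
open Cfsg.Agent.Lib.Forms
open Cfsg.Agent.Lib.SteinbergChar
open Cfsg.Agent.Lib.LieChambers

variable {F V : Type*} [Field F] [Finite F] [AddCommGroup V] [Module F V] [FiniteDimensional F V]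
  {σ : F →+* F} {P : FormPair σ V} (Fr : Frame P 2)

/-- The members other than the base chamber. -/
abbrev Others (k : Fin 2) : Type _ := {Y : Ch P 2 // Y ∈ panel Fr.C0 ((k : ℕ) + 1) ∧ Y ≠ Fr.C0}

/-- The parameters of the last panel. -/
abbrev Sol : Type _ :=
  {s : V × F // Fr.IsW s.1 ∧ P.N (Fr.f 1 + s.1 + s.2 • Fr.e 1) = 0}

theorem ncard_panel (k : Fin 2) :
    ((panel Fr.C0 ((k : ℕ) + 1) : Set (Ch P 2))).ncard = Nat.card (Others Fr k) + 1 := by
  have h := self_mem_panel Fr.C0 ((k : ℕ) + 1)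
  rw [← Set.ncard_diff_singleton_add_one (Finset.mem_coe.2 h) (Finset.finite_toSet _),
    ← Nat.card_coe_set_eq]
  congr 1

theorem smul_Q_mem {u : P.isom} (hu : u ∈ Fr.U) (k : Fin 2) :
    u • Q Fr k ∈ panel Fr.C0 ((k : ℕ) + 1) ∧ u • Q Fr k ≠ Fr.C0 := by
  have := smul_mem_panel u (Q_mem Fr k)
  rw [Fr.U_fix hu] at this
  exact ⟨this, fun e => Q_ne Fr k (MulAction.injective u (e.trans (Fr.U_fix hu).symm))⟩

theorem C0_one_le : Fr.C 1 ≤ Fr.C 2 := Fr.C_mono (by norm_num)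

theorem card_others_zero : Nat.card (Others Fr 0) = Nat.card F := by
  have hvec : ∀ t : F, Fr.e 1 + t • Fr.e 0 ∉ Fr.C ((0 : Fin 2) : ℕ) := fun t h => by
    simpa [Frame.a_e] using (Fr.mem_C_iff.1 h).2.2 1 (Nat.zero_le _)
  have hex : ∀ t : F, ∃ Y : Others Fr 0, Fr.e 1 + t • Fr.e 0 ∈ Y.1.sp 1 := fun t => by
    obtain ⟨u, hu, hux⟩ := exists_root_t Fr (i := (0 : Fin 2)) (i' := 1) (by decide) t
    refine ⟨⟨_, smul_Q_mem Fr hu 0⟩, ?_⟩
    have e : (u : V ≃ₗ[F] V) (Fr.e 1) = Fr.e 1 + t • Fr.e 0 := by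
      rw [← sub_eq_iff_eq_add', hux]
      simp [Frame.a_e, Frame.b_e]
    rw [← e, Ch.smul_sp]
    refine Submodule.mem_map_of_mem ?_
    have h1 := mem_Q Fr (0 : Fin 2)
    simpa using h1
  choose φ hφ using hex
  refine (Nat.card_congr (Equiv.ofBijective φ ⟨fun t t' h => ?_, fun Y => ?_⟩)).symm
  · by_contra hne
    have h1 := sub_mem (hφ t) (h.symm ▸ hφ t')
    rw [show Fr.e 1 + t • Fr.e 0 - (Fr.e 1 + t' • Fr.e 0) = (t - t') • Fr.e 0 by
      rw [sub_smul]; abel] at h1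
    have h2 := (Submodule.smul_mem_iff _ (sub_ne_zero.2 hne)).1 h1
    refine (φ t).2.2 (eq_of_mem_sp (φ t).2.1 (self_mem_panel _ _) h2 ?_ ?_)
    · rw [Frame.C0_sp]; exact Fr.e_mem_C (by simp)
    · rw [Frame.C0_sp]
      intro h3
      simpa [Frame.a_e] using (Fr.mem_C_iff.1 h3).2.2 0 le_rfl
  · obtain ⟨Y, hY, hYne⟩ := Y
    obtain ⟨x, hx, hxC⟩ : ∃ x ∈ Y.sp 1, x ∉ Fr.C 1 := by
      by_contra h
      push Not at h
      refine hYne (Ch.ext' fun i hi => ?_)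
      rcases eq_or_ne i 1 with rfl | hik
      · refine Submodule.eq_of_le_of_finrank_eq ?_ (by rw [Y.dim _ hi, Fr.C0.dim _ hi])
        rw [Frame.C0_sp]; exact h
      · exact mem_panel.1 hY i hi hik
    have hC2 : x ∈ Fr.C 2 := by
      rw [← Fr.C0_sp, ← mem_panel.1 hY 2 le_rfl (by simp)]
      exact Y.mono (by norm_num) hx
    obtain ⟨hpr, hb, -⟩ := Fr.mem_C_iff.1 hC2
    have ha : Fr.a 1 x ≠ 0 := fun h0 => hxC (Fr.mem_C_iff.2 ⟨hpr, hb, fun j hj => by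
      obtain rfl : j = 1 := Fin.ext (by have := j.2; simp; omega)
      exact h0⟩)
    have hexp : x = Fr.a 1 x • (Fr.e 1 + (Fr.a 0 x / Fr.a 1 x) • Fr.e 0) := by
      conv_lhs => rw [Fr.expand x, hpr]
      simp [Fin.sum_univ_two, hb, smul_add, smul_smul, mul_div_cancel₀ _ ha, add_comm]
    refine ⟨Fr.a 0 x / Fr.a 1 x, Subtype.ext (eq_of_mem_sp (φ _).2.1 hY (hφ _) ?_ ?_)⟩
    · rw [hexp] at hx
      exact (Submodule.smul_mem_iff _ ha).1 hx
    · rw [Frame.C0_sp]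
      exact hvec _

theorem card_others_one : Nat.card (Others Fr 1) = Nat.card (Sol Fr) := by
  have hb1 : ∀ w, Fr.IsW w → ∀ c : F, Fr.b 1 (Fr.f 1 + w + c • Fr.e 1) = 1 := fun w hw c => by
    simp [Frame.b_f, Frame.b_e, Fr.b_isW _ hw]
  have hex : ∀ s : Sol Fr, ∃ Y : Others Fr 1, Fr.f 1 + s.1.1 + s.1.2 • Fr.e 1 ∈ Y.1.sp 2 := fun s => by
    obtain ⟨u, hu, hux⟩ := Fr.exists_root_last (1 : Fin 2) rfl s.2.1 s.2.2
    refine ⟨⟨_, smul_Q_mem Fr hu 1⟩, ?_⟩
    have e : (u : V ≃ₗ[F] V) (Fr.f 1) = Fr.f 1 + s.1.1 + s.1.2 • Fr.e 1 := by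
      rw [← sub_add_cancel ((u : V ≃ₗ[F] V) (Fr.f 1)) (Fr.f 1), hux]
      simp [Frame.b_f, Frame.pr_f]
      abel
    rw [← e, Ch.smul_sp]
    refine Submodule.mem_map_of_mem ?_
    have h1 := mem_Q Fr (1 : Fin 2)
    simpa using h1
  choose φ hφ using hex
  refine (Nat.card_congr (Equiv.ofBijective φ ⟨fun s s' h => ?_, fun Y => ?_⟩)).symm
  · have hY := (φ s).1.ts
    set d := Fr.f 1 + s.1.1 + s.1.2 • Fr.e 1 - (Fr.f 1 + s'.1.1 + s'.1.2 • Fr.e 1) with hd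
    have hdm : d ∈ (φ s).1.sp 2 := sub_mem (hφ s) (h.symm ▸ hφ s')
    have hdC : d ∈ Fr.C 2 := by
      refine Fr.mem_C_of_singular (Fr.mem_perp_C.2 fun j _ => ?_) (hY d hdm).1
      simp [hd, Frame.b_e, Fr.b_isW _ s.2.1, Fr.b_isW _ s'.2.1]
    have hw : s.1.1 = s'.1.1 := by
      have h1 := (Fr.mem_C_iff.1 hdC).1
      simp [hd, Frame.pr_e, Frame.pr_f, Fr.pr_of_isW s.2.1, Fr.pr_of_isW s'.2.1, sub_eq_zero] at h1
      exact h1
    have hd' : d = (s.1.2 - s'.1.2) • Fr.e 1 := by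
      rw [hd, hw, sub_smul]; abel
    have h2 := (hY _ (hφ s)).2 d hdm
    simp [hd', Fr.rel.Bfe, Fr.rel.Bee, Fr.eps_ne (1 : Fin 2), P.eq_zero_symm (s.2.1 1).1, sub_eq_zero]
      at h2
    exact Subtype.ext (Prod.ext hw h2)
  · obtain ⟨Y, hY, hYne⟩ := Y
    obtain ⟨x, hx, hxC⟩ : ∃ x ∈ Y.sp 2, x ∉ Fr.C 2 := by
      by_contra h
      push Not at h
      refine hYne (Ch.ext' fun i hi => ?_)
      rcases eq_or_ne i 2 with rfl | hik
      · refine Submodule.eq_of_le_of_finrank_eq ?_ (by rw [Y.dim _ hi, Fr.C0.dim _ hi])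
        rw [Frame.C0_sp]; exact h
      · exact mem_panel.1 hY i hi hik
    have he0 : Fr.e 0 ∈ Y.sp 2 := Y.mono (show 1 ≤ 2 by norm_num) (by
      rw [mem_panel.1 hY 1 (by norm_num) (by simp), Frame.C0_sp]; exact Fr.e_mem_C (by simp))
    have hb0 : Fr.b 0 x = 0 := (Y.ts _ he0).2 x hx
    have hb : Fr.b 1 x ≠ 0 := fun h0 => hxC (Fr.mem_C_of_singular
      (Fr.mem_perp_C.2 fun j _ => by fin_cases j <;> assumption) (Y.ts x hx).1)
    set x₁ := (Fr.b 1 x)⁻¹ • x with hx₁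
    have hexp : x₁ - Fr.a 0 x₁ • Fr.e 0 = Fr.f 1 + Fr.pr x₁ + Fr.a 1 x₁ • Fr.e 1 := by
      conv_lhs => arg 1; rw [Fr.expand x₁]
      simp [Fin.sum_univ_two, hx₁, hb0, hb]
      abel
    have hmem : Fr.f 1 + Fr.pr x₁ + Fr.a 1 x₁ • Fr.e 1 ∈ Y.sp 2 :=
      hexp ▸ sub_mem (Submodule.smul_mem _ _ hx) (Submodule.smul_mem _ _ he0)
    refine ⟨⟨(Fr.pr x₁, Fr.a 1 x₁), Fr.pr_isW x₁, (Y.ts _ hmem).1⟩,
      Subtype.ext (eq_of_mem_sp (φ _).2.1 hY (hφ _) hmem ?_)⟩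
    rw [Frame.C0_sp]
    intro h3
    have := (Fr.mem_C_iff.1 h3).2.1 1
    rw [hb1 _ (Fr.pr_isW x₁)] at this
    exact one_ne_zero this

/-- With no anisotropic part the last panel is smaller than the inner one. -/
theorem card_sol_lt (hW : ∀ w, Fr.IsW w → w = 0) {x : V} (hx : P.N x ≠ 0) :
    Nat.card (Sol Fr) < Nat.card F := by
  haveI : Finite V := Module.finite_of_finite F
  obtain ⟨t, ht⟩ := P.range x 0
  have hne : ∀ s : Sol Fr, s.1.2 ≠ t / P.ε := by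
    rintro ⟨⟨w, c⟩, hw, hN⟩ (rfl : c = _)
    rw [hW w hw, add_zero, P.N_add, Fr.rel.Nf, P.N_smul, Fr.rel.Ne, P.B_smul_right, Fr.rel.Bfe,
      if_pos rfl, div_mul_cancel₀ _ (Fr.eps_ne 1), ht, N_zero] at hN
    simp [hx] at hN
  have h := Nat.card_le_card_of_injective (fun o : Option (Sol Fr) => o.elim (t / P.ε) fun s => s.1.2)
    fun o o' h => by
      rcases o with _ | s <;> rcases o' with _ | s' <;> simp only [Option.elim] at h
      · rfl
      · exact absurd h.symm (hne s')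
      · exact absurd h (hne s)
      · exact congrArg some (Subtype.ext (Prod.ext ((hW _ s.2.1).trans (hW _ s'.2.1).symm) h))
  rw [Finite.card_option] at h
  omega

/-- With an anisotropic part the last panel is larger than the inner one. -/
theorem card_sol_gt {w₁ : V} (hw : Fr.IsW w₁) (hw₁ : w₁ ≠ 0) {c₀ : F} (hc₀ : c₀ ≠ 0)
    (hN₀ : P.N (Fr.f 1 + c₀ • Fr.e 1) = 0) : Nat.card F < Nat.card (Sol Fr) := by
  haveI : Finite V := Module.finite_of_finite F
  have hsol : ∀ w, Fr.IsW w → ∃ c : F, P.N (Fr.f 1 + w + c • Fr.e 1) = 0 := fun w hw' => by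
    obtain ⟨t, ht⟩ := P.range w 0
    refine ⟨-t / P.ε, ?_⟩
    have hB : P.B (Fr.f 1 + (-t / P.ε) • Fr.e 1) w = 0 := by
      simp [(hw' 1).1, (hw' 1).2, P.B_smul_left]
    rw [add_right_comm, N_add_eq P hB, P.N_add, Fr.rel.Nf, P.N_smul, Fr.rel.Ne, P.B_smul_right,
      Fr.rel.Bfe, if_pos rfl, div_mul_cancel₀ _ (Fr.eps_ne 1), show -t = (-1) * t by ring,
      P.ρ_smul _ _ (by simp), ht, N_zero]
    ring
  have hr : ∀ r : F, Fr.IsW (r • w₁) := fun r j => by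
    simp [(hw j).1, (hw j).2]
  choose c hc using fun r => hsol _ (hr r)
  classical
  let φ : Option F → Sol Fr := fun o => o.elim
    ⟨(0, c₀), fun j => by simp, by simpa using hN₀⟩
    fun r => if r = 0 then ⟨(0, 0), fun j => by simp, by simpa using Fr.rel.Nf 1⟩
      else ⟨(r • w₁, c r), hr r, hc r⟩
  have hinj : Function.Injective φ := by
    intro o o' h
    have h1 := congrArg (fun s : Sol Fr => s.1) h
    rcases o with _ | r <;> rcases o' with _ | r' <;> simp only [φ, Option.elim] at h1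
    · rfl
    · split_ifs at h1 with h2
      · exact absurd (congrArg Prod.snd h1) hc₀
      · exact absurd (congrArg Prod.fst h1).symm (smul_ne_zero h2 hw₁)
    · split_ifs at h1 with h2
      · exact absurd (congrArg Prod.snd h1).symm hc₀
      · exact absurd (congrArg Prod.fst h1) (smul_ne_zero h2 hw₁)
    · congr 1
      split_ifs at h1 with h2 h3 h3
      · rw [h2, h3]
      · exact absurd (congrArg Prod.fst h1).symm (smul_ne_zero h3 hw₁)
      · exact absurd (congrArg Prod.fst h1) (smul_ne_zero h2 hw₁)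
      · exact smul_left_injective F hw₁ (congrArg Prod.fst h1)
  have := Nat.card_le_card_of_injective φ hinj
  rw [Finite.card_option] at this
  omega

end Cfsg.Agent.Lib.PMinLie
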