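import Cfsg.Prelude.Def_LieTypeChar
import Cfsg.Agent.Lib.LieChambers.TitsClassical
import Cfsg.Agent.Lib.PMinLie.Geom
import Cfsg.Agent.Lib.PMinLie.Frames
import Cfsg.Agent.Lib.PMinLie.RankTwoCount

/-!
The classical groups given by frames.
-/

set_option autoImplicit false
set_option linter.unusedSectionVars false
set_option linter.style.haveILetI false

namespace Cfsg.Agent.Lib.PMinLie

open MulAction
open Cfsg.Agent.Lib.Forms
open Cfsg.Agent.Lib.SteinbergChar
open Cfsg.Agent.Lib.LieChambers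

/-- The groups of rank one, the pairs of atoms allowed, and the configurations without twins. -/
def SysShape {p : ℕ} {G X K : Type*} [Group G] [MulAction G X] (Gr : Type*) [Group Gr]
    (S : Sys p G X K) [Finite X] (L : Set K) : Prop :=
  Cfsg.IsLieRankOneChar p Gr ∨ ((S.atomSet L).ncard = 2 ∧ Allowed p Gr) ∨
    HasDegrees (S.atomSet L) ∨ ∃ A ∈ S.atomSet L, ∃ A' ∈ S.atomSet L, Nat.card A ≠ Nat.card A'

theorem geom_of_center {p : ℕ} [Fact p.Prime] {H H₀ G X K : Type*} [Group H] [Group H₀] [Group G]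
    [MulAction H X] [Finite X] [Finite H] [Finite G] (S : Sys p H X K) {L : Set K} (hT : S.Thick L)
    (hmove : S.Move) (hlab : S.Labels) (f : H₀ ≃* H) (e : G ≃* H₀ ⧸ Subgroup.center H₀)
    (hS : SysShape G S L) : Geom p G := by
  set π : H →* G := e.symm.toMonoidHom.comp ((QuotientGroup.mk' _).comp f.symm.toMonoidHom)
  have hπ : Function.Surjective π :=
    e.symm.surjective.comp ((QuotientGroup.mk'_surjective _).comp f.symm.surjective)
  have hker : ∀ n ∈ π.ker, n • S.C = S.C := by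
    intro h hh
    simp only [π, MonoidHom.mem_ker, MonoidHom.comp_apply, MulEquiv.coe_toMonoidHom,
      EmbeddingLike.map_eq_one_iff, QuotientGroup.mk'_apply, QuotientGroup.eq_one_iff] at hh
    have hc : h ∈ Subgroup.center H := Subgroup.mem_center_iff.2 fun g => f.symm.injective (by
      rw [map_mul, map_mul]; exact Subgroup.mem_center_iff.1 hh _)
    exact S.fixed h fun u hu => by
      rw [← mul_smul, Subgroup.mem_center_iff.1 hc u, mul_smul, S.U_fix u hu]
  obtain ⟨hk, U, hU, hA⟩ := Sys.atoms_push S π hπ hker hT hmove hlab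
  have hle : ∀ A ∈ S.atomSet L, π.ker ≤ A := by
    rintro _ ⟨b, hb, k, -, rfl⟩
    exact hk.trans (Sys.stab_le_panelStab hb k)
  refine ⟨U, _, hA, ?_⟩
  rcases hS with h | ⟨h, h'⟩ | h | ⟨A, hA₁, A', hA₂, h⟩
  · exact Or.inl h
  · refine Or.inr (Or.inl ⟨?_, h'⟩)
    rw [Set.InjOn.ncard_image fun A hA' B hB he => ?_, h]
    rw [← sup_eq_left.2 (hle A hA'), ← sup_eq_left.2 (hle B hB), ← Subgroup.comap_map_eq, he,
      Subgroup.comap_map_eq]
  · exact Or.inr (Or.inr ((h.map hle).hasNonTwins hA))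
  · refine Or.inr (Or.inr ⟨_, ⟨A, hA₁, rfl⟩, _, ⟨A', hA₂, rfl⟩, not_twins_of_card fun he => h ?_⟩)
    have key : ∀ B : Subgroup H, π.ker ≤ B → Nat.card B * Nat.card G = Nat.card H * Nat.card (B.map π) :=
      fun B hB => by
        rw [← Subgroup.card_mul_index (B.map π), Subgroup.index_map_eq _ hπ hB, ← Subgroup.card_mul_index B]
        ring
    have h1 := key A (hle A hA₁)
    rw [he, ← key A' (hle A' hA₂)] at h1
    exact Nat.eq_of_mul_eq_mul_right Nat.card_pos h1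

theorem atomSet_two {p : ℕ} {G X : Type*} [Group G] [MulAction G X] [Finite X] (S : Sys p G X (Fin 2))
    (hBs : S.Bs = {S.C}) : S.atomSet Set.univ = {S.panelStab 0 S.C, S.panelStab 1 S.C} := by
  ext A
  constructor
  · rintro ⟨b, hb, k, -, rfl⟩
    rw [hBs, Set.mem_singleton_iff] at hb
    subst hb
    fin_cases k
    · exact Or.inl rfl
    · exact Or.inr rfl
  · rintro (rfl | rfl)
    · exact ⟨_, S.C_mem, 0, trivial, rfl⟩
    · exact ⟨_, S.C_mem, 1, trivial, rfl⟩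

section Frame

variable {F V : Type*} [Field F] [Finite F] [AddCommGroup V] [Module F V] [FiniteDimensional F V]
  {σ : F →+* F} {P : FormPair σ V} {p : ℕ} {H : Subgroup P.isom} {Gr : Type*} [Group Gr]

theorem shape_thick {m : ℕ} (hm : 3 ≤ m) (Fr : Frame P m) (S : Sys p H (Ch P m) (Fin m))
    (hC : S.C = Fr.C0) (hBs : S.Bs = {Fr.C0})
    (hpanel : S.panel = fun (k : Fin m) (D : Ch P m) => (panel D ((k : ℕ) + 1) : Set (Ch P m))) :
    SysShape Gr S Set.univ := by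
  haveI : Nonempty (Fin m) := ⟨⟨0, by omega⟩⟩
  refine Or.inr (Or.inr (Or.inl (hasDegrees_frame Fr S hpanel (S.thick_univ (hC.symm ▸ hBs)) hm
    (hBs.symm ▸ rfl) (fun _ _ => trivial) fun b hb k _ => ?_)))
  rw [hBs, Set.mem_singleton_iff] at hb
  rw [hb]

theorem shape_two {m : ℕ} (hm : m = 2) (Fr : Frame P m) (S : Sys p H (Ch P m) (Fin m))
    (hC : S.C = Fr.C0) (hBs : S.Bs = {Fr.C0})
    (hpanel : S.panel = fun (k : Fin m) (D : Ch P m) => (panel D ((k : ℕ) + 1) : Set (Ch P m))) :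
    (S.atomSet Set.univ).ncard = 2 := by
  subst hm
  have hBs' : S.Bs = {S.C} := hC.symm ▸ hBs
  rw [atomSet_two S hBs', Set.ncard_pair]
  exact panelStab_ne S hpanel (S.thick_univ hBs') S.C_mem (Set.mem_univ 0) (by decide)

theorem shape_two_unitary [Finite H] {m : ℕ} (hm : m = 2) (Fr : Frame P m) (S : Sys p H (Ch P m) (Fin m))
    (hC : S.C = Fr.C0) (hBs : S.Bs = {Fr.C0})
    (hpanel : S.panel = fun (k : Fin m) (D : Ch P m) => (panel D ((k : ℕ) + 1) : Set (Ch P m)))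
    (hc : ∀ l : Fin m, ∃ c : F, c ≠ 0 ∧ P.N (Fr.f l + c • Fr.e l) = 0)
    {x : V} (hx : P.N x ≠ 0) : SysShape Gr S Set.univ := by
  subst hm
  have hBs' : S.Bs = {S.C} := hC.symm ▸ hBs
  refine Or.inr (Or.inr (Or.inr ⟨_, ⟨S.C, S.C_mem, 0, trivial, rfl⟩, _, ⟨S.C, S.C_mem, 1, trivial, rfl⟩,
    fun he => ?_⟩))
  rw [S.card_panelStab hBs', S.card_panelStab hBs'] at he
  have he' := Nat.eq_of_mul_eq_mul_right Nat.card_pos he
  rw [hpanel, hC, ncard_panel, ncard_panel, card_others_zero, card_others_one] at he'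
  by_cases hW : ∀ w, Fr.IsW w → w = 0
  · have := card_sol_lt Fr hW hx
    omega
  · push Not at hW
    obtain ⟨w₁, hw₁, hne₁⟩ := hW
    obtain ⟨c, hc0, hNc⟩ := hc 1
    have := card_sol_gt Fr hw₁ hne₁ hc0 hNc
    omega

end Frame

variable {F : Type} [Field F] [Fintype F] (p : ℕ) [Fact p.Prime] [CharP F p]
variable {G : Type*} [Group G] [Finite G]

theorem geom_PSp {m : ℕ} (hm : 2 ≤ m) (hcard : m = 2 → 3 ≤ Fintype.card F) (e : G ≃* Cfsg.PSp m F) :
    Geom p G := by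
  have hW : ∀ w, (Sp.frame m F).IsW w → w = 0 := fun w hw => (Sp.frame m F).aniso' hw rfl
  obtain ⟨S, hC, hBs, hpanel, hmove, hlab⟩ := exists_sys_tits_thick (Sp.frame m F) p ⊤ le_top
    (Nat.one_le_of_lt hm) (fun g _ _ _ w hw => by rw [hW w hw, map_zero, map_zero])
    (fun l _ => ⟨0, 1, fun j => by simp, Or.inr one_ne_zero, rfl⟩) (by
      obtain ⟨g, hg⟩ := (Sp.frame m F).exists_swap
      exact ⟨g, trivial, hg _⟩)
  haveI : Nonempty (Fin m) := ⟨⟨0, by omega⟩⟩
  refine geom_of_center S (S.thick_univ (hC.symm ▸ hBs)) hmove hlab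
    (((Symplectic.spEquiv m F).trans (Sp.isoEquiv m F)).trans Subgroup.topEquiv.symm) e ?_
  rcases Nat.lt_or_ge m 3 with h | h
  · obtain rfl : m = 2 := by omega
    refine Or.inr (Or.inl ⟨shape_two rfl _ S hC hBs hpanel, fun hp => ?_⟩)
    subst hp
    refine Or.inr (Or.inl ⟨F, inferInstance, inferInstance, inferInstance, ?_, ⟨e⟩⟩)
    obtain ⟨k, -, hk⟩ := FiniteField.card F 2
    have h3 := hcard rfl
    rw [hk] at h3 ⊢
    rcases Nat.lt_or_ge (k : ℕ) 2 with hk2 | hk2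
    · interval_cases (k : ℕ) <;> simp_all
    · calc 4 = 2 ^ 2 := rfl
        _ ≤ 2 ^ (k : ℕ) := Nat.pow_le_pow_right two_pos hk2
  · exact shape_thick h _ S hC hBs hpanel

theorem geom_PSU {n q : ℕ} (hF : Fintype.card F = q ^ 2) (hn : 3 ≤ n) (h3 : ¬ (n = 3 ∧ q = 2))
    (e : G ≃* Cfsg.PSU n F q) : Geom p G := by
  classical
  obtain ⟨Fr, hU, hmid, hlast, hopp⟩ := SU.unitary_data hF n p (by omega)
  obtain ⟨S, hC, hBs, hpanel, hmove, hlab⟩ :=
    exists_sys_tits_thick Fr p _ hU (Nat.div_pos (by omega) (by norm_num)) hmid hlast hopp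
  haveI : Nonempty (Fin (n / 2)) := ⟨⟨0, by omega⟩⟩
  refine geom_of_center S (S.thick_univ (hC.symm ▸ hBs)) hmove hlab
    (MonoidHom.ofInjective (SU.suHom_injective hF n)) e ?_
  rcases Nat.lt_or_ge n 4 with h | h
  · obtain rfl : n = 3 := by omega
    exact Or.inl (Or.inr (Or.inl ⟨F, inferInstance, inferInstance, inferInstance, q, hF,
      fun hq => h3 ⟨rfl, hq⟩, ⟨e⟩⟩))
  rcases Nat.lt_or_ge n 6 with h6 | h6
  · refine shape_two_unitary (by omega) Fr S hC hBs hpanel (fun l => ?_)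
      (x := Pi.single ⟨0, by omega⟩ 1) ?_
    · obtain ⟨c, hc, hc'⟩ := Unitary.exists_trace_zero_ne_zero hF
      refine ⟨c, hc, ?_⟩
      rw [(SU.pair hF n).N_add, Fr.rel.Nf, (SU.pair hF n).N_smul, Fr.rel.Ne,
        FormPair.B_smul_right, Fr.rel.Bfe, if_pos rfl]
      show (0 : F) + _ * 0 + (c * 1 + Unitary.conj hF (c * 1)) = 0
      rw [mul_one, Unitary.conj_apply, hc']
      ring
    · rw [SU.pair_N, hermForm, Finset.sum_eq_single ⟨0, by omega⟩] <;> simp_all
  · exact shape_thick (by omega) Fr S hC hBs hpanel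

variable {ι : Type} [Fintype ι] [DecidableEq ι]

theorem geom_pOmega (Q : QuadraticForm F (ι → F)) (hQ : Nondeg Q) {f : (ι → F) → F}
    (hf : ∀ v, f v = Q v) {X K : Type*} [MulAction (Orth.om Q hQ) X] [Finite X]
    (S : Sys p (Orth.om Q hQ) X K) {L : Set K} (hT : S.Thick L) (hmove : S.Move) (hlab : S.Labels)
    (e : G ≃* Cfsg.POmega F f) (hS : SysShape G S L) : Geom p G :=
  geom_of_center S hT hmove hlab ((OrthOmega.omegaEquiv Q hf).trans
    ((commutator (orth Q)).equivMapOfInjective _ (Orth.equiv hQ).injective)) e hS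

theorem geom_aniso {m : ℕ} (hm : 3 ≤ m) {V' : Type*} [AddCommGroup V'] [Module F V']
    [FiniteDimensional F V'] (Q : QuadraticForm F (ι → F)) (hQ : Nondeg Q)
    (φ : (ι → F) ≃ₗ[F] (Fin m ⊕ Fin m → F) × V') (R : QuadraticForm F V')
    (hR : ∀ z, R z = 0 → z = 0) (hφ : ∀ x, Q x = qPlus m (φ x).1 + R (φ x).2)
    {z : V'} (hz : z ≠ 0) (hd : p = 2 → Module.finrank F V' ≤ 2)
    (hq : (∃ a : F, a ≠ 0 ∧ a ≠ 1) ∨ Module.finrank F (ι → F) ≠ 4) {f : (ι → F) → F}
    (hf : ∀ v, f v = Q v) (e : G ≃* Cfsg.POmega F f) : Geom p G := by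
  obtain ⟨Fr, hU, hmid, hlast, hopp⟩ := Orth.aniso_data p Q hQ φ R hR hφ hz hd hq
  obtain ⟨S, hC, hBs, hpanel, hmove, hlab⟩ :=
    exists_sys_tits_thick Fr p _ hU (by omega) hmid hlast hopp
  haveI : Nonempty (Fin m) := ⟨⟨0, by omega⟩⟩
  exact geom_pOmega p Q hQ hf S (S.thick_univ (hC.symm ▸ hBs)) hmove hlab e
    (shape_thick hm Fr S hC hBs hpanel)

theorem geom_odd {m : ℕ} (hm : 3 ≤ m) (h2 : (2 : F) ≠ 0)
    (e : G ≃* Cfsg.POmega F (Cfsg.quadFormOdd m F)) : Geom p G :=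
  geom_aniso p hm (OrthStd.qOddC m F) (OrthOmega.qOddC_nondeg m h2)
    (OrthStd.oddSplit m F) (qOne 1) (fun z hz => by simpa [qOne_apply] using hz)
    (fun x => by simp [OrthStd.qOddC]) one_ne_zero (fun _ => by simp [Module.finrank_self])
    (Or.inl ⟨2, h2, fun h => one_ne_zero (add_eq_right.1 (show (1 : F) + 1 = 1 by
      rw [one_add_one_eq_two]; exact h))⟩) (OrthStd.quadFormOdd_eq m) e

theorem geom_minus {m : ℕ} (hm : 3 ≤ m) {a b : F}
    (hab : ∀ z₁ z₂ : F, z₁ ^ 2 + a * z₁ * z₂ + b * z₂ ^ 2 = 0 → z₁ = 0 ∧ z₂ = 0)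
    (e : G ≃* Cfsg.POmega F (Cfsg.quadFormMinus m F a b)) : Geom p G :=
  geom_aniso p hm (OrthStd.qMinusC m a b)
    (AutPOmega.qMinusC_nondeg m hab) (OrthStd.minusSplit m F) (qBin a b)
    (fun z hz => qBin_anisotropic hab z hz) (fun x => by simp [OrthStd.qMinusC]) (z := fun _ => 1)
    (fun h => one_ne_zero (congrFun h 0)) (fun _ => by simp) (Or.inr (by
      rw [Module.finrank_fintype_fun_eq_card]
      simp only [Fintype.card_sum, Fintype.card_fin]
      omega)) (OrthStd.quadFormMinus_eq m a b) e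

theorem geom_plus {m : ℕ} (hm : 4 ≤ m)
    (e : G ≃* Cfsg.POmega F (Cfsg.quadFormPlus m F)) : Geom p G := by
  classical
  obtain ⟨Fr, l, hl, hW, hρ, hU, hpar, hopp⟩ := Orth.plus_data (F := F) p (m := m) (by omega)
    (Or.inr (by rw [MaxSingular.finrank_space]; omega))
  obtain ⟨S, -, hBs, hpanel, hmove, hlab⟩ :=
    exists_sys_tits_thin Fr p _ hU (by omega) l hl hW hρ hpar hopp
  obtain ⟨hT, heq⟩ := thin_data Fr S hpanel hl hBs hW hρ hpar (by omega)
  refine geom_pOmega p _ _ (OrthStd.quadFormPlus_eq m) S hT hmove hlab e (Or.inr (Or.inr (Or.inl ?_)))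
  refine hasDegrees_frame Fr S hpanel hT (by omega) (hBs.symm ▸ Or.inl rfl) (fun k hk hkl => ?_)
    fun b hb k hk => heq b hb k (by omega)
  subst hkl
  omega

end Cfsg.Agent.Lib.PMinLie
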