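import Cfsg.Agent.Lib.ChevAut.OutBasic
import Cfsg.Agent.Lib.PMinLie.Chev

/-!
The two minimal parabolic subgroups of G₂(q), `q` a power of two other than two, are not interchanged by
an automorphism fixing the Borel subgroup.
-/

set_option autoImplicit false
set_option linter.unusedSectionVars false
set_option linter.style.haveILetI false
set_option maxRecDepth 100000

namespace Cfsg.Agent.Lib.PMinLie

open Pointwise
open Cfsg.Lie
open Cfsg.Agent.Lib.ChevStructure
open Cfsg.Agent.Lib.ChevAut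
open Cfsg.Agent.Lib.LieChambers
open Cfsg.Agent.Lib.BNPair.Basic (mem_parabolic_of_mem B_le_parabolic mem_parabolic_S_iff parabolic_injective)
open scoped MatrixGroups

variable {D : ChevalleyDatum} (C : Core D) {F : Type*} [Field F] [Fintype F]
  (p : ℕ) [Fact p.Prime] [CharP F p]

theorem mem_US_of_borel (H : CommOK C) {g : ↥(D.group F)} (hg : (g : GL D.Idx F) ∈ D.borelSubgroup F)
    (hk : ∃ k, g ^ p ^ k = 1) : (g : GL D.Idx F) ∈ C.US F C.Pos := by
  obtain ⟨k, -, hF⟩ := FiniteField.card F p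
  set U : Subgroup ↥(D.group F) := (C.US F C.Pos).subgroupOf (D.group F)
  have hp : IsPGroup p U := by
    refine IsPGroup.of_card (n := k * (D.nroots / 2)) ?_
    rw [Nat.card_congr (Subgroup.subgroupOfEquivOfLe (C.US_le_group C.Pos)).toEquiv, H.card_posUS,
      Nat.card_eq_fintype_card, hF, ← pow_mul]
  refine LieChambers.pel_of_torus (P := H.bnPair F) hp
    (fun b hb u hu => borel_normalizes H (b := (b : GL D.Idx F)) hb hu)
    ((D.diagonalSubgroup F).subgroupOf (D.group F)) (fun b hb => ?_)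
    (fun t ht => C.diagonal_le_borel ht)
    (fun t ht j hj => Subtype.ext (ChevBorelTits.eq_one_of_mem_diag C F p ht
      (congrArg Subtype.val hj))) hg hk
  obtain ⟨u, hu, h, hh, e⟩ := C.mem_borel_iff.1 (show (b : GL D.Idx F) ∈ D.borelSubgroup F from hb)
  exact ⟨⟨u, C.US_le_group C.Pos hu⟩, hu, ⟨h, C.borel_le_group (C.diagonal_le_borel hh)⟩, hh, Subtype.ext e⟩

/-- An automorphism fixing the Borel subgroup and moving a minimal parabolic subgroup gives a
normalised automorphism moving the node. -/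
theorem exists_perms (p : ℕ) [Fact p.Prime] [CharP F p] (H : CommOK C) (θ : MulAut ↥(D.group F))
    (hθ : θ • (H.bnPair F).B = (H.bnPair F).B) {i j : Fin D.rank} (hij : i ≠ j)
    (hmap : θ • (H.bnPair F).parabolic {sgen C F i} = (H.bnPair F).parabolic {sgen C F j}) :
    ∃ (ψ : ↥(D.group F) ≃* ↥(D.group F)) (π : Equiv.Perm (Fin D.rank)) (f g : Fin D.rank → F → F),
      Perms C ψ π f g ∧ (∀ k, f k 1 = 1) ∧ π i ≠ i := by
  have hBmem : ∀ y : ↥(D.group F), θ y ∈ (H.bnPair F).B ↔ y ∈ (H.bnPair F).B := fun y => by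
    conv_lhs => rw [← hθ]
    exact Subgroup.smul_mem_pointwise_smul_iff
  have hUfix : Fix θ (C.US F C.Pos) := by
    have key : ∀ y : ↥(D.group F), (y : GL D.Idx F) ∈ C.US F C.Pos → ∃ k, y ^ p ^ k = 1 := fun y hy => by
      obtain ⟨k, hk⟩ := exists_pow_eq_one p H hy
      exact ⟨k, Subtype.ext (by simpa using hk)⟩
    intro y
    constructor
    · intro hy
      obtain ⟨k, hk⟩ := key _ hy
      refine mem_US_of_borel C p H ((hBmem y).1 (C.posUS_le_borel hy)) ⟨k, θ.injective ?_⟩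
      rw [map_pow, map_one, hk]
    · intro hy
      obtain ⟨k, hk⟩ := key _ hy
      exact mem_US_of_borel C p H ((hBmem y).2 (C.posUS_le_borel hy)) ⟨k, by rw [← map_pow, hk, map_one]⟩
  obtain ⟨x, hU, hN⟩ := exists_fix_both C H θ
  set φ := θ.trans (innG x)
  have hxB : x ∈ (H.bnPair F).B := by
    have hx : Fix (MulAut.conj x) (C.US F C.Pos) := fun y => by
      have h1 := hU (θ.symm y)
      have h2 := hUfix (θ.symm y)
      rw [show φ (θ.symm y) = MulAut.conj x y by simp [φ, innG]] at h1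
      rw [θ.apply_symm_apply] at h2
      exact h1.trans h2.symm
    show (x : GL D.Idx F) ∈ D.borelSubgroup F
    rw [borel_eq_normalizer C H]
    exact ⟨x.2, mem_normalizer_of_fix C (C.US_le_group _) hx⟩
  obtain ⟨π, f, g, hfg⟩ := exists_perm C H hU hN
  have hP : Perms C φ π f g := hfg
  have hπ : π i ≠ i := by
    intro hπi
    set Pj := (H.bnPair F).parabolic {sgen C F j}
    have hxP : x ∈ Pj := B_le_parabolic _ hxB
    have hφ : ∀ y, y ∈ (H.bnPair F).parabolic {sgen C F i} → φ y ∈ Pj := fun y hy => by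
      have h1 : θ y ∈ Pj := hmap ▸ Subgroup.smul_mem_pointwise_smul _ θ _ hy
      exact mul_mem (mul_mem hxP h1) (inv_mem hxP)
    have hneg : ∀ t, (⟨C.X F (C.p i).rev t, C.X_mem_group _ _⟩ : ↥(D.group F)) ∈
        (H.bnPair F).parabolic {sgen C F i} := fun t => by
      have hB : (⟨C.X F (C.p i) (((C.ηU F i (C.p i))⁻¹ : Fˣ) * t), C.X_mem_group _ _⟩ : ↥(D.group F)) ∈
          (H.bnPair F).B := C.X_mem_borel (C.p_pos i) _
      have hs : sgen C F i ∈ (H.bnPair F).parabolic {sgen C F i} := mem_parabolic_of_mem rfl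
      have h1 := mul_mem (mul_mem hs (B_le_parabolic _ hB)) (inv_mem hs)
      convert h1 using 1
      apply Subtype.ext
      show C.X F (C.p i).rev t = C.P F i * C.X F (C.p i) _ * (C.P F i)⁻¹
      rw [C.P_X_conj, C.w_p, ← mul_assoc]
      simp [Core.ηU, ← Int.cast_mul, C.η_mul_self]
    have h2 : (⟨C.X F (C.p i).rev (g i 1), C.X_mem_group _ _⟩ : ↥(D.group F)) ∈ Pj := by
      have h3 := hφ _ (hneg 1)
      rw [(hP i 1).2] at h3
      simpa only [hπi] using h3
    set u : Fˣ := Units.mk0 (-(g i 1)⁻¹) (neg_ne_zero.2 (inv_ne_zero (g_ne C hP i one_ne_zero)))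
    have hn : (⟨C.nR F (C.p i) u, C.nR_mem_group _ _⟩ : ↥(D.group F)) ∈ Pj := by
      have hXB : (⟨C.X F (C.p i) u, C.X_mem_group _ _⟩ : ↥(D.group F)) ∈ Pj :=
        B_le_parabolic _ (C.X_mem_borel (C.p_pos i) _)
      have e : (⟨C.nR F (C.p i) u, C.nR_mem_group _ _⟩ : ↥(D.group F)) =
          ⟨C.X F (C.p i) u, C.X_mem_group _ _⟩ * ⟨C.X F (C.p i).rev (g i 1), C.X_mem_group _ _⟩ *
            ⟨C.X F (C.p i) u, C.X_mem_group _ _⟩ := Subtype.ext (by simp [Core.nR, u])
      rw [e]; exact mul_mem (mul_mem hXB h2) hXB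
    obtain ⟨c, hc⟩ := C.nR_p F i u
    have hd : (⟨C.HT F c, C.borel_le_group (C.diagonal_le_borel (C.HT_mem_diagonal c))⟩ : ↥(D.group F)) ∈ Pj :=
      B_le_parabolic _ (C.diagonal_le_borel (C.HT_mem_diagonal c))
    have hs : sgen C F i ∈ Pj := by
      have h4 := mul_mem (inv_mem hd) hn
      convert h4 using 1
      apply Subtype.ext
      show C.P F i = (C.HT F c)⁻¹ * C.nR F (C.p i) u
      rw [hc, inv_mul_cancel_left]
    have := (mem_parabolic_S_iff (Set.singleton_subset_iff.2 (sgen_mem_S H j)) (sgen_mem_S H i)).1 hs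
    exact hij (sgen_injective H this)
  set χ : Fin D.rank → Fˣ := fun k => Units.mk0 (f (π.symm k) 1) (f_ne C hP _ one_ne_zero) with hχ
  set d := diagAut C χ (F := F) with hd
  have hsymm : ∀ r t, d.symm ⟨C.X F r t, C.X_mem_group _ _⟩ =
      ⟨C.X F r (((C.chr F χ r)⁻¹ : Fˣ) * t), C.X_mem_group _ _⟩ := by
    intro r t
    rw [MulEquiv.symm_apply_eq, hd, diagAut_GX C, ← mul_assoc, ← Units.val_mul, mul_inv_cancel, Units.val_one,
      one_mul]
  refine ⟨φ.trans d.symm, π, fun k t => (((χ (π k))⁻¹ : Fˣ) : F) * f k t,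
    fun k t => (χ (π k) : F) * g k t, fun k t => ⟨?_, ?_⟩, fun k => ?_, hπ⟩
  · rw [MulEquiv.trans_apply, (hP k t).1, hsymm]
    simp only [chr_p C]
  · rw [MulEquiv.trans_apply, (hP k t).2, hsymm]
    simp only [C.chr_rev, chr_p C, inv_inv]
  · simp [hχ, f_ne C hP k one_ne_zero]

/-- No automorphism exchanges the minimal parabolic subgroups. -/
theorem false_of_swap {C : Core chevG2} [CharP F 2] (hcard : 3 ≤ Fintype.card F)
    {ψ : ↥(chevG2.group F) ≃* ↥(chevG2.group F)} {π : Equiv.Perm (Fin chevG2.rank)}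
    {f g : Fin chevG2.rank → F → F} (hP : Perms C ψ π f g) (h1 : ∀ k, f k 1 = 1)
    (hπ : ∃ i, π i ≠ i) : False := by
  have key : ∀ π : Equiv.Perm (Fin chevG2.rank), (∃ i, π i ≠ i) →
      ∃ i j, cart chevG2 i j = -1 ∧ cart chevG2 (π i) (π j) = -3 := by decide +kernel
  obtain ⟨i, j, hij, hb⟩ := key π hπ
  rw [cart_eq C] at hij hb
  have htor : ∀ t, f j t = f i t ^ 3 := fun t => by
    by_cases ht : t = 0
    · subst ht
      rw [f_zero C hP, f_zero C hP, zero_pow (by norm_num)]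
    have h := f_torus C hP h1 i j (Units.mk0 t ht) t
    simp only [hij, hb, Units.val_zpow_eq_zpow_val, Units.val_mk0] at h
    rw [zpow_neg_one, inv_mul_cancel₀ ht, h1, zpow_neg, show (3 : ℤ) = ((3 : ℕ) : ℤ) from rfl,
      zpow_natCast] at h
    exact eq_of_inv_mul_eq_one (h.symm) |>.symm
  have hadd : ∀ x y : F, (x + y) ^ 3 = x ^ 3 + y ^ 3 := by
    intro x y
    obtain ⟨a, rfl⟩ := (Finite.injective_iff_surjective.1 (f_injective C hP i)) x
    obtain ⟨b, rfl⟩ := (Finite.injective_iff_surjective.1 (f_injective C hP i)) y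
    rw [← f_add C hP, ← htor, ← htor, ← htor, f_add C hP]
  have hall : ∀ x : F, x = 0 ∨ x = 1 := fun x => by
    have h2 := pow_eq_pow_ringChar (Or.inr rfl) hadd x
    rw [ringChar.eq F 2] at h2
    have h3 : x ^ 2 * (x - 1) = 0 := by linear_combination h2
    rcases mul_eq_zero.1 h3 with h4 | h4
    · exact Or.inl (pow_eq_zero_iff two_ne_zero |>.1 h4)
    · exact Or.inr (sub_eq_zero.1 h4)
  classical
  have : Fintype.card F ≤ ({0, 1} : Finset F).card :=
    Finset.card_le_card (fun x _ => by simpa using hall x)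
  have := Finset.card_le_two (a := (0 : F)) (b := 1)
  omega

theorem geom_G2 {C : Core chevG2} (H : CommOK C) (hcard : 3 ≤ Fintype.card F) {G : Type*} [Group G]
    [Finite G] (e : G ≃* ↥(chevG2.group F)) : Geom p G := by
  obtain ⟨d⟩ := nonempty_bnData H (F := F) p
  haveI : Finite (GL chevG2.Idx F) := inferInstance
  let i0 : Fin chevG2.rank := ⟨0, by decide⟩
  let i1 : Fin chevG2.rank := ⟨1, by decide⟩
  obtain ⟨U, hU, hA⟩ := atoms_bn d ⟨_, sgen_mem_S H i0⟩ e (hrad_chev p H d)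
  by_cases hp2 : p = 2
  · subst hp2
    refine ⟨U, _, hA, Or.inr (Or.inr ⟨_, ⟨_, ⟨_, sgen_mem_S H i0, rfl⟩, rfl⟩,
      _, ⟨_, ⟨_, sgen_mem_S H i1, rfl⟩, rfl⟩, fun ⟨α, hα, hα'⟩ => ?_⟩)⟩
    rw [hU] at hα
    let θ : MulAut ↥(chevG2.group F) := e.symm.trans (α.trans e)
    have hθ : ∀ {A A' : Subgroup ↥(chevG2.group F)},
        α • A.map e.symm.toMonoidHom = A'.map e.symm.toMonoidHom → θ • A = A' := fun {A A'} h => by
      have h2 := congrArg (Subgroup.map e.toMonoidHom) h
      have e1 : (A'.map e.symm.toMonoidHom).map e.toMonoidHom = A' := by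
        rw [Subgroup.map_map]
        ext y
        simp
      rw [e1] at h2
      refine Eq.trans ?_ h2
      show A.map θ.toMonoidHom = ((A.map e.symm.toMonoidHom).map α.toMonoidHom).map e.toMonoidHom
      rw [Subgroup.map_map, Subgroup.map_map]
      rfl
    obtain ⟨ψ, π, f, g, hP, h1, hπ⟩ := exists_perms C 2 H θ (hθ hα) (i := i0) (j := i1) (by decide) (hθ hα')
    exact false_of_swap hcard hP h1 ⟨i0, hπ⟩
  · refine ⟨U, _, hA, Or.inr (Or.inl ⟨?_, fun h => absurd h hp2⟩)⟩
    rw [Set.ncard_image_of_injective _ (Subgroup.map_injective (f := e.symm.toMonoidHom) e.symm.injective),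
      ncard_minParabolics]
    have hS : (H.bnPair F).S = Set.range (sgen C F) := by
      ext s
      exact ⟨fun hs => by obtain ⟨i, rfl⟩ := exists_sgen H hs; exact ⟨i, rfl⟩,
        fun ⟨i, hi⟩ => hi ▸ sgen_mem_S H i⟩
    rw [hS, Set.ncard_range_of_injective (sgen_injective H), Nat.card_fin]
    rfl

end Cfsg.Agent.Lib.PMinLie
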