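import Cfsg.Prelude.Def_AlmostLie
import Cfsg.Agent.Lib.LieChambers.TitsPSL
import Cfsg.Agent.Lib.PMinLie.Geom

/-!
The atoms above the Borel subgroup of `PSL_n`: block upper triangular matrices.
-/

set_option autoImplicit false
set_option linter.unusedSectionVars false
set_option linter.style.haveILetI false

namespace Cfsg.Agent.Lib.PMinLie.PSL

open Matrix
open Cfsg.Agent.Lib.AutPSL
open Cfsg.Agent.Lib.GLFlags
open Cfsg.Agent.Lib.LieChambers
open scoped MatrixGroups Pointwise

variable {n : ℕ} {F : Type*} [Field F] [Fintype F]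

local notation "Mn" => Matrix (Fin n) (Fin n) F
local notation "SLn" => Matrix.SpecialLinearGroup (Fin n) F

theorem coe_mul' (a b : SLn) : ((a * b : SLn) : Mn) = (a : Mn) * (b : Mn) := rfl

theorem coe_one' : ((1 : SLn) : Mn) = 1 := rfl

/-- Determinant one matrices which are block triangular. -/
noncomputable def blockSub (f : Fin n → ℕ) : Subgroup SLn where
  carrier := {g | ((g : SLn) : Mn).BlockTriangular f}
  one_mem' := by simpa using Matrix.blockTriangular_one
  mul_mem' := fun {a b} ha hb => by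
    show ((a * b : SLn) : Mn).BlockTriangular f
    exact Matrix.BlockTriangular.mul ha hb
  inv_mem' := fun {a} (ha : ((a : SLn) : Mn).BlockTriangular f) => by
    show ((a⁻¹ : SLn) : Mn).BlockTriangular f
    haveI : Invertible (a : Mn) :=
      invertibleOfRightInverse _ ((a⁻¹ : SLn) : Mn) (congrArg Subtype.val (mul_inv_cancel a))
    have h : (a : Mn)⁻¹ = ((a⁻¹ : SLn) : Mn) :=
      Matrix.inv_eq_right_inv (congrArg Subtype.val (mul_inv_cancel a))
    rw [← h]
    exact Matrix.blockTriangular_inv_of_blockTriangular ha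

/-- The block function of a set of simple positions. -/
noncomputable def blk (S : Set ℕ) (r : Fin n) : ℕ := by
  classical exact if 0 < (r : ℕ) ∧ (r : ℕ) - 1 ∈ S then (r : ℕ) - 1 else r

/-- Upper triangular up to the positions in `S`. -/
noncomputable def par (S : Set ℕ) : Subgroup SLn := blockSub (blk S)

/-- No two positions are neighbours. -/
def Sparse (S : Set ℕ) : Prop := ∀ i ∈ S, i + 1 ∉ S

theorem sparse_empty : Sparse (∅ : Set ℕ) := fun _ h => absurd h (Set.notMem_empty _)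

theorem sparse_singleton (k : ℕ) : Sparse ({k} : Set ℕ) := fun i hi h => by
  rw [Set.mem_singleton_iff] at hi h
  omega

theorem blk_lt_iff {S : Set ℕ} (hS : Sparse S) {r s : Fin n} :
    blk S s < blk S r ↔ s < r ∧ ¬ ((r : ℕ) = s + 1 ∧ (s : ℕ) ∈ S) := by
  classical
  rw [Fin.lt_def]
  by_cases h1 : 0 < (r : ℕ) ∧ (r : ℕ) - 1 ∈ S <;> by_cases h2 : 0 < (s : ℕ) ∧ (s : ℕ) - 1 ∈ S <;>
    simp only [blk, if_pos, if_neg, h1, h2, not_false_eq_true, and_self]
  · have : (r : ℕ) = s + 1 → False := fun e => hS _ h2.2 (by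
      have := h1.2
      rwa [show (r : ℕ) - 1 = (s : ℕ) - 1 + 1 by omega] at this)
    constructor
    · intro h; exact ⟨by omega, fun h' => this h'.1⟩
    · rintro ⟨h, -⟩; omega
  · constructor
    · intro h; exact ⟨by omega, fun h' => by omega⟩
    · rintro ⟨h, h'⟩
      rcases eq_or_ne (r : ℕ) (s + 1) with e | e
      · exact absurd ⟨e, by simpa [e] using h1.2⟩ h'
      · omega
  · constructor
    · intro h
      refine ⟨?_, fun h' => h1 ⟨by omega, by simpa [h'.1] using h'.2⟩⟩
      by_contra hc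
      have e : (r : ℕ) = s := by omega
      exact h1 (by rw [e]; exact h2)
    · rintro ⟨h, -⟩; omega
  · constructor
    · intro h
      exact ⟨h, fun h' => h1 ⟨by omega, by simpa [h'.1] using h'.2⟩⟩
    · rintro ⟨h, -⟩; exact h

theorem mem_par {S : Set ℕ} (hS : Sparse S) {g : SLn} :
    g ∈ par S ↔ ∀ r s : Fin n, s < r → (g : Mn) r s ≠ 0 → (r : ℕ) = s + 1 ∧ (s : ℕ) ∈ S := by
  constructor
  · intro h r s hrs hne
    by_contra hc
    exact hne (h ((blk_lt_iff hS).2 ⟨hrs, hc⟩))
  · intro h r s hrs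
    by_contra hne
    obtain ⟨h1, h2⟩ := (blk_lt_iff hS).1 hrs
    exact h2 (h r s h1 hne)

theorem par_mono {S T : Set ℕ} (hS : Sparse S) (hT : Sparse T) (h : S ⊆ T) :
    (par S : Subgroup SLn) ≤ par T := fun _ hg =>
  (mem_par hT).2 fun r s hrs hne => ⟨((mem_par hS).1 hg r s hrs hne).1, h ((mem_par hS).1 hg r s hrs hne).2⟩

theorem mem_borel {g : SLn} : g ∈ par ∅ ↔ ∀ r s : Fin n, s < r → (g : Mn) r s = 0 := by
  rw [mem_par sparse_empty]
  refine forall₃_congr fun r s _ => ⟨fun h => by_contra fun hne => Set.notMem_empty _ (h hne).2,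
    fun h hne => absurd h hne⟩

theorem uni_le_borel : uni n F ≤ par ∅ := fun g hg =>
  mem_borel.2 fun r s hrs => (mem_uni_iff.1 hg).2 hrs

/-- The root element at a simple negative position. -/
noncomputable def low (k : ℕ) (hk : k + 1 < n) (t : F) : SLn :=
  SpecialLinearGroup.transvection (show (⟨k + 1, hk⟩ : Fin n) ≠ ⟨k, by omega⟩ by simp) t

theorem low_apply (k : ℕ) (hk : k + 1 < n) (t : F) (r s : Fin n) :
    ((low k hk t : SLn) : Mn) r s =
      (if r = s then 1 else 0) + if (⟨k + 1, hk⟩ : Fin n) = r ∧ (⟨k, by omega⟩ : Fin n) = s then t else 0 := by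
  rw [low, SpecialLinearGroup.transvection_coe, Matrix.add_apply, Matrix.one_apply, Matrix.single_apply]

theorem low_mem (k : ℕ) (hk : k + 1 < n) (t : F) {S : Set ℕ} (hS : Sparse S) (h : k ∈ S) :
    low k hk t ∈ par S := by
  refine (mem_par hS).2 fun r s hrs hne => ?_
  rw [low_apply, if_neg hrs.ne', zero_add] at hne
  split_ifs at hne with h'
  · obtain ⟨rfl, rfl⟩ := h'
    exact ⟨rfl, h⟩
  · exact absurd rfl hne

theorem low_not_mem {k : ℕ} (hk : k + 1 < n) {S : Set ℕ} (hS : Sparse S) (h : k ∉ S) :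
    low k hk (1 : F) ∉ par S := fun hm => h
  ((mem_par hS).1 hm ⟨k + 1, hk⟩ ⟨k, by omega⟩ (by simp [Fin.lt_def]) (by simp [low_apply])).2

/-- Clearing one of the positions from the left. -/
theorem factor {S : Set ℕ} (hS : Sparse S) {j : ℕ} (hj : j + 1 < n) (hjS : j ∈ S) {g : SLn}
    (hg : g ∈ par S) : ∃ u ∈ uni n F, ∃ t : F, low j hj t * u * g ∈ par (S \ {j}) := by
  have hS' : Sparse (S \ {j}) := fun i hi h => hS i hi.1 h.1
  set J : Fin n := ⟨j, by omega⟩
  set J' : Fin n := ⟨j + 1, hj⟩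
  have hJ : J < J' := by simp [J, J', Fin.lt_def]
  have hg' := (mem_par hS).1 hg
  obtain ⟨u, hu, hu1⟩ : ∃ u ∈ uni n F,
      (u * g : SLn).1 J J ≠ 0 ∨ (u * g : SLn).1 J' J = 0 := by
    by_cases h0 : (g : Mn) J J = 0 ∧ (g : Mn) J' J ≠ 0
    · refine ⟨_, transvection_mem_of_lt le_rfl hJ 1, Or.inl ?_⟩
      rw [coe_mul', SpecialLinearGroup.transvection_coe, add_mul, one_mul,
        Matrix.add_apply, Matrix.single_mul_apply_same, one_mul, h0.1, zero_add]
      exact h0.2
    · refine ⟨1, one_mem _, ?_⟩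
      rw [one_mul]
      exact (not_and_or.1 h0).imp id not_not.1
  set g₁ : SLn := u * g
  have hg₁ := (mem_par hS).1 (mul_mem (par_mono sparse_empty hS (Set.empty_subset S) (uni_le_borel hu)) hg)
  obtain ⟨t, ht⟩ : ∃ t : F, (g₁ : Mn) J' J + t * (g₁ : Mn) J J = 0 := by
    rcases hu1 with h | h
    · refine ⟨-(g₁ : Mn) J' J / (g₁ : Mn) J J, ?_⟩
      show (g₁ : Mn) J' J + _ * _ = 0
      rw [div_mul_cancel₀ _ h, add_neg_cancel]
    · exact ⟨0, by rw [zero_mul, add_zero]; exact h⟩
  refine ⟨u, hu, t, (mem_par hS').2 fun r s hrs hne => ?_⟩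
  rw [mul_assoc] at hne
  change ((low j hj t : SLn) * g₁ : SLn).1 r s ≠ 0 at hne
  rw [coe_mul', low, SpecialLinearGroup.transvection_coe, add_mul, one_mul,
    Matrix.add_apply] at hne
  by_cases hr : r = J'
  · subst hr
    rw [Matrix.single_mul_apply_same] at hne
    exfalso
    by_cases hsJ : s = J
    · subst hsJ; exact hne ht
    · have h1 : (g₁ : Mn) J' s = 0 := by_contra fun h =>
        hsJ (Fin.ext (by have := (hg₁ _ _ hrs h).1; simp [J', J] at this ⊢; omega))
      have h2 : (g₁ : Mn) J s = 0 := by_contra fun h => by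
        have hsj : s < J := lt_of_le_of_ne (Nat.le_of_lt_succ (Fin.lt_def.1 hrs)) hsJ
        obtain ⟨e1, e2⟩ := hg₁ _ _ hsj h
        exact hS _ e2 (by rw [← e1]; exact hjS)
      exact hne (by rw [h1, h2, mul_zero, add_zero])
  · rw [Matrix.single_mul_apply_of_ne _ _ _ _ _ hr, add_zero] at hne
    obtain ⟨e1, e2⟩ := hg₁ r s hrs hne
    refine ⟨e1, e2, fun e => hr (Fin.ext ?_)⟩
    rw [Set.mem_singleton_iff] at e
    simp only [J']
    omega

theorem par_le {k : ℕ} (hk : k + 1 < n) {M : Subgroup SLn} (hB : par ∅ ≤ M)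
    (hlow : ∀ t, low k hk t ∈ M) : par {k} ≤ M := by
  intro g hg
  obtain ⟨u, hu, t, h⟩ := factor (sparse_singleton k) hk rfl hg
  rw [Set.diff_self] at h
  exact (Subgroup.mul_mem_cancel_left _ (mul_mem (hlow t) (hB (uni_le_borel hu)))).1 (hB h)

/-- The atoms. -/
def atomsSL (n : ℕ) (F : Type*) [Field F] [Fintype F] :
    Set (Subgroup (Matrix.SpecialLinearGroup (Fin n) F)) :=
  {A | ∃ k, k + 1 < n ∧ A = par {k}}

theorem exists_low {M : Subgroup SLn} (hUM : uni n F ≤ M) {g : SLn} (hg : g ∈ M) (hgB : g ∉ par ∅) :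
    ∃ k, ∃ hk : k + 1 < n, ∀ t : F, low k hk t ∈ M := by
  classical
  obtain ⟨a, b, σ, ha, hb, he⟩ := exists_gl_decomp (Matrix.SpecialLinearGroup.toGL g)
  obtain ⟨i, j, hij, hσ⟩ : ∃ i j : Fin n, i < j ∧ σ j < σ i := by
    by_contra hc
    push Not at hc
    have hmono : StrictMono σ := fun i j hij =>
      lt_of_le_of_ne (hc i j hij) fun e => hij.ne (σ.injective e)
    obtain rfl : σ = 1 := Equiv.ext fun x =>
      congrFun (hmono.range_inj strictMono_id |>.1 (by rw [σ.surjective.range_eq, Set.range_id])) x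
    refine hgB (mem_borel.2 fun r s hrs => ?_)
    have e : Matrix.SpecialLinearGroup.toGL g = a⁻¹ * b⁻¹ := by
      rw [map_one] at he
      exact eq_mul_inv_of_mul_eq (eq_inv_of_mul_eq_one_right ((mul_assoc _ _ _).symm.trans he))
    have h1 := mul_mem (inv_mem ha) (inv_mem hb)
    rw [← e] at h1
    exact h1 hrs
  have hne : σ i ≠ σ j := hσ.ne'
  have hinv := fun t => inversion_mem hUM hg ha hb he hij hne t
  have hk : (σ j : ℕ) + 1 < n := by have := Fin.lt_def.1 hσ; have := (σ i).2; omega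
  refine ⟨σ j, hk, fun t => ?_⟩
  set K₁ : Fin n := ⟨(σ j : ℕ) + 1, hk⟩
  by_cases h1 : σ i = K₁
  · exact transvection_congr (hinv t) h1.symm (Fin.ext rfl)
  · have hlt : K₁ < σ i := lt_of_le_of_ne (Fin.le_def.2 (Nat.succ_le_of_lt (Fin.lt_def.1 hσ))) (Ne.symm h1)
    have hK : K₁ ≠ σ j := fun e => by have := congrArg Fin.val e; simp [K₁] at this
    have h2 := transvection_mem_of_lt hUM hlt 1
    have h3 := hinv t
    refine transvection_congr (r' := K₁) (s' := σ j) (h' := hK) ?_ rfl (Fin.ext rfl)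
    rw [← one_mul t, ← transvection_comm_apply hlt.ne hne hK 1 t]
    exact mul_mem (mul_mem (mul_mem h2 h3) (inv_mem h2)) (inv_mem h3)

theorem atoms_SL (hn : 2 ≤ n) : Atoms (par ∅) (atomsSL n F) := by
  refine ⟨?_, fun M hM => ?_, ?_, ?_⟩
  · rintro _ ⟨k, hk, rfl⟩
    exact lt_of_le_not_ge (par_mono sparse_empty (sparse_singleton k) (Set.empty_subset _))
      fun h => low_not_mem hk sparse_empty (Set.notMem_empty k) (h (low_mem k hk 1 (sparse_singleton k) rfl))
  · obtain ⟨g, hg, hgB⟩ := SetLike.exists_of_lt hM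
    obtain ⟨k, hk, hlow⟩ := exists_low (uni_le_borel.trans hM.le) hg hgB
    exact ⟨_, ⟨k, hk, rfl⟩, par_le hk hM.le hlow⟩
  · refine eq_top_of_simple hn ?_ fun k hk t => ?_
    · exact (uni_le_borel.trans (par_mono sparse_empty (sparse_singleton 0) (Set.empty_subset _))).trans
        (le_sSup ⟨0, by omega, rfl⟩)
    · have h : (par {k} : Subgroup SLn) ≤ sSup (atomsSL n F) := le_sSup ⟨k, hk, rfl⟩
      exact h (low_mem k hk t (sparse_singleton k) rfl)
  · rintro _ ⟨k, hk, rfl⟩
    refine ⟨blockSub fun r => if k < (r : ℕ) then 1 else 0, fun e => ?_, ?_⟩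
    · have h := (e.symm ▸ Subgroup.mem_top (low k hk (1 : F)) :
        low k hk (1 : F) ∈ blockSub fun r : Fin n => if k < (r : ℕ) then 1 else 0)
      have h1 := h (i := ⟨k + 1, hk⟩) (j := ⟨k, by omega⟩) (by simp)
      simp [low_apply] at h1
    · rintro _ ⟨j, hj, rfl⟩ hne g hg r s hrs
      by_contra hne'
      dsimp only at hrs
      have hlt : s < r := by
        rw [Fin.lt_def]
        split_ifs at hrs <;> omega
      obtain ⟨e1, e2⟩ := (mem_par (sparse_singleton j)).1 hg r s hlt hne'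
      rw [Set.mem_singleton_iff] at e2
      refine hne (congrArg (fun i => par {i}) ?_)
      split_ifs at hrs <;> omega

theorem sparse_pair {j k : ℕ} (h1 : j + 1 ≠ k) (h2 : k + 1 ≠ j) : Sparse ({j, k} : Set ℕ) := by
  intro i hi h
  simp only [Set.mem_insert_iff, Set.mem_singleton_iff] at hi h
  omega

theorem mul_eq_par {j k : ℕ} (hj : j + 1 < n) (h1 : j + 1 ≠ k) (h2 : k + 1 ≠ j) (hne : j ≠ k) :
    ((par {j} : Subgroup SLn) : Set SLn) * (par {k} : Subgroup SLn) = (par {j, k} : Subgroup SLn) := by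
  have hjk := sparse_pair h1 h2
  refine Set.Subset.antisymm ?_ fun g hg => ?_
  · rintro _ ⟨a, ha, b, hb, rfl⟩
    exact mul_mem (par_mono (sparse_singleton j) hjk (by simp) ha)
      (par_mono (sparse_singleton k) hjk (by simp) hb)
  · obtain ⟨u, hu, t, h⟩ := factor hjk hj (Or.inl rfl) hg
    refine ⟨(low j hj t * u)⁻¹, inv_mem (mul_mem (low_mem j hj t (sparse_singleton j) rfl)
      (par_mono sparse_empty (sparse_singleton j) (Set.empty_subset _) (uni_le_borel hu))), _,
      par_mono (fun i hi h' => hjk i hi.1 h'.1) (sparse_singleton k) ?_ h, inv_mul_cancel_left _ _⟩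
    rintro i ⟨rfl | hi, hi'⟩
    · exact absurd rfl hi'
    · exact hi

theorem comm_par {j k : ℕ} (hj : j + 1 < n) (hk : k + 1 < n) (h1 : j + 1 ≠ k) (h2 : k + 1 ≠ j) :
    Comm (par {j} : Subgroup SLn) (par {k}) := by
  by_cases hne : j = k
  · subst hne; rfl
  show (_ : Set SLn) = _
  rw [mul_eq_par hj h1 h2 hne, mul_eq_par hk h2 h1 (Ne.symm hne), Set.pair_comm]

theorem not_comm_par {j : ℕ} (hj : j + 2 < n) :
    ¬ Comm (par {j} : Subgroup SLn) (par {j + 1}) := by
  intro hc
  set e₁ := low (n := n) (F := F) j (by omega) 1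
  set e₂ := low (n := n) (F := F) (j + 1) (by omega) 1
  have hmem : e₂ * e₁ ∈ ((par {j + 1} : Subgroup SLn) : Set SLn) * (par {j} : Subgroup SLn) :=
    ⟨e₂, low_mem _ _ _ (sparse_singleton _) rfl, e₁, low_mem _ _ _ (sparse_singleton _) rfl, rfl⟩
  rw [← show _ = _ from hc] at hmem
  obtain ⟨a, ha, b, hb, e⟩ := hmem
  set R : Fin n := ⟨j + 1 + 1, by omega⟩
  set M : Fin n := ⟨j + 1, by omega⟩
  set C : Fin n := ⟨j, by omega⟩
  have h1 : (a * b : SLn).1 R C = 0 := by
    rw [coe_mul', Matrix.mul_apply]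
    refine Finset.sum_eq_zero fun l _ => ?_
    by_contra h
    obtain ⟨hal, hbl⟩ := mul_ne_zero_iff.1 h
    have hRl : R ≤ l := not_lt.1 fun hlt => by
      obtain ⟨e1, e2⟩ := (mem_par (sparse_singleton j)).1 ha R l hlt hal
      simp [R] at e1 e2
      omega
    have hlC : l ≤ C := not_lt.1 fun hlt => by
      obtain ⟨e1, e2⟩ := (mem_par (sparse_singleton (j + 1))).1 hb l C hlt hbl
      simp [C] at e1 e2
    have := hRl.trans hlC
    simp [R, C, Fin.le_def] at this
  rw [show a * b = e₂ * e₁ from e, coe_mul', Matrix.mul_apply,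
    Finset.sum_eq_single M] at h1
  · simp [e₁, e₂, low_apply, R, M, C] at h1
  · intro l _ hl
    simp only [e₁, e₂, low_apply, R, M, C] at hl ⊢
    have hne : l ≠ (⟨j, by omega⟩ : Fin n) ∨ l = ⟨j, by omega⟩ := ne_or_eq _ _
    rcases hne with h | rfl
    · rw [if_neg h]
      simp [Ne.symm hl]
    · simp [Fin.ext_iff]
      omega
  · simp

theorem par_injective {j k : ℕ} (hj : j + 1 < n) (h : (par {j} : Subgroup SLn) = par {k}) : j = k := by
  by_contra hne
  exact low_not_mem hj (sparse_singleton k) (by simpa using hne)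
    (h ▸ low_mem j hj (1 : F) (sparse_singleton j) rfl)

theorem hasDegrees_SL (hn : 4 ≤ n) : HasDegrees (atomsSL n F) := by
  refine ⟨_, ⟨0, by omega, rfl⟩, _, ⟨1, by omega, rfl⟩, _, ⟨1, by omega, rfl⟩, _, ⟨0, by omega, rfl⟩,
    _, ⟨2, by omega, rfl⟩, ?_, fun e => absurd (par_injective (j := 0) (k := 2) (by omega) e) (by omega),
    fun h => not_comm_par (j := 0) (by omega) h.symm, not_comm_par (j := 1) (by omega)⟩
  rintro _ ⟨k, hk, rfl⟩ hne
  exact comm_par (by omega) hk (fun e => hne (by rw [← e])) (Nat.succ_ne_zero k)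

theorem ncard_three (hn : n = 3) : (atomsSL n F).ncard = 2 := by
  have e : atomsSL n F = {par {0}, par {1}} := by
    ext A
    constructor
    · rintro ⟨k, hk, rfl⟩
      rcases (show k = 0 ∨ k = 1 by omega) with rfl | rfl
      · exact Or.inl rfl
      · exact Or.inr rfl
    · rintro (rfl | rfl)
      · exact ⟨0, by omega, rfl⟩
      · exact ⟨1, by omega, rfl⟩
  rw [e, Set.ncard_pair fun h => absurd (par_injective (by omega) h) (by omega)]

theorem mul_diag {A B : Mn} (hA : A.BlockTriangular id) (hB : B.BlockTriangular id) (i : Fin n) :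
    (A * B) i i = A i i * B i i := by
  rw [Matrix.mul_apply, Finset.sum_eq_single i]
  · intro k _ hk
    rcases lt_or_gt_of_ne hk with h | h
    · rw [hA h, zero_mul]
    · rw [hB h, mul_zero]
  · simp

theorem conj_uni {g u : SLn} (hg : g ∈ par ∅) (hu : u ∈ uni n F) : g * u * g⁻¹ ∈ uni n F := by
  have hU := mem_uni_iff.1 hu
  have h1 : ((g : SLn) : Mn).BlockTriangular id := fun r s hrs => mem_borel.1 hg r s hrs
  have h2 : ((g⁻¹ : SLn) : Mn).BlockTriangular id := fun r s hrs => mem_borel.1 (inv_mem hg) r s hrs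
  refine mem_uni_iff.2 ⟨fun i => ?_, ?_⟩ <;> rw [coe_mul', coe_mul']
  · rw [mul_diag (h1.mul hU.2) h2, mul_diag h1 hU.2, hU.1, mul_one, ← mul_diag h1 h2,
      ← coe_mul', mul_inv_cancel, coe_one', Matrix.one_apply_eq]
  · exact (h1.mul hU.2).mul h2

theorem ker_le_borel :
    (QuotientGroup.mk' (Subgroup.center SLn)).ker ≤ par ∅ := by
  intro z hz
  rw [MonoidHom.mem_ker, QuotientGroup.mk'_apply] at hz
  obtain ⟨c, hc⟩ := (mk_eq_one_iff z).1 hz
  exact mem_borel.2 fun r s hrs => by rw [hc]; simp [hrs.ne']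

theorem normalizer_uniBar (hn : 2 ≤ n) :
    Subgroup.normalizer ((uniBar n F : Subgroup _) : Set (Matrix.ProjectiveSpecialLinearGroup (Fin n) F)) =
      (par (n := n) (F := F) ∅).map (QuotientGroup.mk' _) := by
  set π := QuotientGroup.mk' (Subgroup.center SLn)
  refine le_antisymm (fun x hx => ?_) ?_
  · obtain ⟨g, rfl⟩ := QuotientGroup.mk'_surjective _ x
    refine ⟨g, ?_, rfl⟩
    by_contra hgB
    set N := (Subgroup.normalizer ((uniBar n F : Subgroup _) : Set (Matrix.ProjectiveSpecialLinearGroup (Fin n) F))).comap π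
    have hUN : uni n F ≤ N := fun u hu => Subgroup.le_normalizer ⟨u, hu, rfl⟩
    obtain ⟨k, hk, hlow⟩ := exists_low hUN (show g ∈ N from hx) hgB
    set X : SLn := SpecialLinearGroup.transvection
      (show (⟨k, by omega⟩ : Fin n) ≠ ⟨k + 1, hk⟩ by simp) (1 : F)
    have hX : X ∈ uni n F := transvection_mem_of_lt le_rfl (by simp [Fin.lt_def]) 1
    obtain ⟨u, hu, e⟩ := (Subgroup.mem_normalizer_iff.1 (hlow 1) (π X)).1 ⟨X, hX, rfl⟩
    have hB : low k hk 1 * X * (low k hk (1 : F))⁻¹ ∈ par ∅ := by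
      have h1 : u⁻¹ * (low k hk 1 * X * (low k hk (1 : F))⁻¹) ∈ π.ker := by
        rw [MonoidHom.mem_ker, map_mul, map_inv, inv_mul_eq_one, e, map_mul, map_mul, map_inv]
      simpa using mul_mem (uni_le_borel hu) (ker_le_borel h1)
    have hB' := mem_borel.1 hB ⟨k + 1, hk⟩ ⟨k, by omega⟩ (by simp [Fin.lt_def])
    rw [coe_mul', coe_mul', SpecialLinearGroup.transvection_coe,
      mul_add, add_mul, mul_one, ← coe_mul', mul_inv_cancel, coe_one',
      Matrix.add_apply, conj_entry] at hB'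
    have hinv : (low k hk (1 : F))⁻¹ = low k hk (-1) := by
      rw [inv_eq_iff_mul_eq_one]
      apply Subtype.ext
      rw [coe_mul', low, low, SpecialLinearGroup.transvection_coe,
        SpecialLinearGroup.transvection_coe]
      simp [add_mul, mul_add, Matrix.single_mul_single_of_ne, add_assoc, ← Matrix.single_add]
    simp [hinv, low_apply] at hB'
  · rintro _ ⟨g, hg, rfl⟩
    refine Subgroup.mem_normalizer_iff.2 fun y => ⟨?_, ?_⟩
    · rintro ⟨u, hu, rfl⟩
      exact ⟨_, conj_uni hg hu, by simp [π]⟩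
    · rintro ⟨u, hu, e⟩
      refine ⟨_, conj_uni (inv_mem hg) hu, ?_⟩
      rw [map_mul, map_mul, e, inv_inv, map_inv]
      simp [π, mul_assoc]

theorem geom_PSL {F : Type} [Field F] [Fintype F] (p : ℕ) [Fact p.Prime] [CharP F p] (hn : 2 ≤ n)
    (hcard : n = 2 → 4 ≤ Fintype.card F) {G : Type*} [Group G] [Finite G]
    (e : G ≃* Matrix.ProjectiveSpecialLinearGroup (Fin n) F) : Geom p G := by
  set π : Matrix.SpecialLinearGroup (Fin n) F →* G := e.symm.toMonoidHom.comp (QuotientGroup.mk' _)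
  have hπ : Function.Surjective π := e.symm.surjective.comp (QuotientGroup.mk'_surjective _)
  have hker : π.ker ≤ par ∅ := fun z hz => ker_le_borel (by
    rw [MonoidHom.mem_ker, MonoidHom.comp_apply, MulEquiv.coe_toMonoidHom,
      EmbeddingLike.map_eq_one_iff] at hz
    exact hz)
  obtain ⟨P₀, hP₀⟩ := exists_sylow_uniBar (F := F) hn p
  let U : Sylow p G := P₀.mapSurjective (f := e.symm.toMonoidHom) e.symm.surjective
  have hU : Subgroup.normalizer ((U : Subgroup G) : Set G) = (par ∅).map π := by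
    rw [← Subgroup.map_map, ← normalizer_uniBar hn, Subgroup.map_normalizer_eq_of_bijective _
      (MulEquiv.bijective e.symm), ← hP₀]
    rfl
  have hA := (atoms_SL (F := F) hn).map hπ hker
  refine ⟨U, _, hU.symm ▸ hA, ?_⟩
  have hle : ∀ A ∈ atomsSL n F, π.ker ≤ A := fun A hA' => hker.trans ((atoms_SL hn).above A hA').le
  rcases (show n = 2 ∨ n = 3 ∨ 4 ≤ n by omega) with h | h | h
  · subst h
    exact Or.inl (Or.inl ⟨F, inferInstance, inferInstance, inferInstance, hcard rfl, ⟨e⟩⟩)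
  · refine Or.inr (Or.inl ⟨?_, fun hp => ?_⟩)
    · rw [Set.InjOn.ncard_image fun A hA' B hB he => ?_, ncard_three h]
      rw [← sup_eq_left.2 (hle A hA'), ← sup_eq_left.2 (hle B hB), ← Subgroup.comap_map_eq, he,
        Subgroup.comap_map_eq]
    · subst hp h
      exact Or.inl ⟨F, inferInstance, inferInstance, inferInstance, ⟨e⟩⟩
  · rw [hU]
    exact Or.inr (Or.inr (((hasDegrees_SL h).map hle).hasNonTwins hA))

end Cfsg.Agent.Lib.PMinLie.PSL
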