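import Cfsg.Agent.Lib.LieChambers.RankOne
import Cfsg.Agent.Lib.LieChambers.OvergroupSmall
import Cfsg.Agent.Lib.LieChambers.TitsFamilies
import Cfsg.Agent.Lib.PMinLie.Geom

/-!
The groups of rank one: the Borel subgroup is maximal.
-/

set_option autoImplicit false
set_option linter.unusedSectionVars false
set_option linter.style.haveILetI false

namespace Cfsg.Agent.Lib.PMinLie

open Cfsg.Agent.Lib.LieChambers
open Cfsg.Agent.Lib.ChevStructure
open Cfsg.Lie

theorem geom_rankOne {p : ℕ} [Fact p.Prime] {H : Type*} [Group H] [Finite H] {B : Subgroup H}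
    (D : RankOneData p B) {G : Type*} [Group G] [Finite G] (e : G ≃* H)
    (h : Cfsg.IsLieRankOneChar p G) : Geom p G := by
  obtain ⟨P₀, hP₀⟩ := D.sys.exists_sylow_eq_U
  have hst : MulAction.stabilizer H (QuotientGroup.mk 1 : H ⧸ B) = B := by
    ext g
    rw [MulAction.mem_stabilizer_iff, MulAction.Quotient.smul_mk, smul_eq_mul, mul_one,
      QuotientGroup.eq, mul_one, inv_mem_iff]
  have hN : Subgroup.normalizer ((P₀ : Subgroup H) : Set H) = B := by
    rw [hP₀, D.sys.normalizer_U]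
    exact hst
  have hB : IsCoatom B := by
    refine ⟨fun e => D.w_not_mem (((congrArg (fun A : Subgroup H => D.w ∈ A) e).mpr (Subgroup.mem_top _))),
      fun M hM => eq_top_iff.2 fun g _ => ?_⟩
    obtain ⟨x, hxM, hxB⟩ := SetLike.exists_of_lt hM
    obtain ⟨u, hu, hux⟩ := (D.bruhat x).resolve_left hxB
    have hw : D.w ∈ M := by
      have := mul_mem (mul_mem (inv_mem (hM.le (D.U_le hu))) hxM) (inv_mem (hM.le hux))
      simpa [mul_assoc] using this
    rcases D.bruhat g with hg | ⟨v, hv, hvg⟩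
    · exact hM.le hg
    · simpa [mul_assoc] using mul_mem (mul_mem (hM.le (D.U_le hv)) hw) (hM.le hvg)
  set S : Sylow p G := P₀.mapSurjective (f := e.symm.toMonoidHom) e.symm.surjective
  have hU : Subgroup.normalizer ((S : Subgroup G) : Set G) = B.map e.symm.toMonoidHom := by
    conv_rhs => rw [← hN, Subgroup.map_normalizer_eq_of_bijective _ (MulEquiv.bijective e.symm)]
    rfl
  exact ⟨S, {⊤}, atoms_of_isCoatom (hU ▸ (OrderIso.isCoatom_iff e.symm.mapSubgroup B).2 hB), Or.inl h⟩

section Ree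

open Cfsg.Agent.Lib.LieTwisted.Ree

theorem nonempty_rankOne_ree {K : Type*} [Field K] [Fintype K] {m : ℕ}
    (hK : Fintype.card K = 3 ^ (2 * m + 1)) [Fact (Nat.Prime 3)] :
    ∃ B : Subgroup ↥(Cfsg.Lie.twistedG2 K (3 ^ m)), Nonempty (RankOneData 3 B) := by
  classical
  haveI : CharP K 3 := charP_of_card_eq_prime_pow hK
  set B := B1 (K := K) m
  set U : Subgroup ↥(Cfsg.Lie.twistedG2 K (3 ^ m)) :=
    (C2.US K C2.Pos).subgroupOf (Cfsg.Lie.twistedG2 K (3 ^ m))
  have hposU : ∀ t u v : K, reeU m t u v ∈ C2.US K C2.Pos := fun t u v => by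
    rw [← C2.posUnipotent_eq]; exact reeU_mem_pos m t u v
  have hp : IsPGroup 3 U := by
    have hbig : IsPGroup 3 (C2.US K C2.Pos) :=
      IsPGroup.of_card (n := (2 * m + 1) * (chevG2.nroots / 2))
        (by rw [LieTwisted.Ree.commOK.card_posUS, Nat.card_eq_fintype_card, hK, ← pow_mul])
    intro u
    obtain ⟨j, hj⟩ := hbig ⟨_, u.2⟩
    exact ⟨j, Subtype.ext (Subtype.ext (by simpa [Subtype.ext_iff] using hj))⟩
  have hnorm : ∀ b ∈ (bnPairRee hK).B, ∀ u ∈ U, b * u * b⁻¹ ∈ U := fun b hb u hu =>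
    borel_normalizes LieTwisted.Ree.commOK (b := (b : GL chevG2.Idx K)) (mem_B1.1 hb) hu
  have hpel : ∀ g ∈ B, (∃ k, g ^ 3 ^ k = 1) → g ∈ U := fun g hg hk =>
    pel_of_torus (P := bnPairRee hK) hp hnorm
      ((chevG2.diagonalSubgroup K).subgroupOf (Cfsg.Lie.twistedG2 K (3 ^ m))) (fun b hb => by
        obtain ⟨t, u, v, y, h⟩ := (borel_twisted hK b.1).1 ⟨mem_B1.1 hb, b.2⟩
        exact ⟨⟨reeU m t u v, reeU_mem m t u v⟩, hposU t u v, ⟨hy m y, hy_mem hK y⟩,
          hy_mem_diag m y, Subtype.ext h⟩)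
      (fun t ht => mem_B1.2 (diag_le_borel ht))
      (fun t ht k hk => Subtype.ext (ChevBorelTits.eq_one_of_mem_diag C2 K 3 ht
        (congrArg Subtype.val hk))) hg hk
  refine ⟨B, ⟨({
    U := U
    U_le := fun u hu => mem_B1.2 (C2.posUS_le_borel hu)
    U_ne := fun h => ?_
    p_group := hp
    pel := hpel
    w := w0 m
    w_not_mem := fun h => n0_not_borel (mem_B1.1 h)
    bruhat := fun g => ?_
    free := fun u hu h => Subtype.ext (borel_inf_opp (K := K) ?_ ?_) })⟩⟩
  · have h1 : (⟨reeU m (0 : K) 1 0, reeU_mem m _ _ _⟩ : ↥(Cfsg.Lie.twistedG2 K (3 ^ m))) ∈ U :=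
      hposU 0 1 0
    rw [h, Subgroup.mem_bot] at h1
    exact one_ne_zero (reeU_eq_one (congrArg Subtype.val h1)).2.1
  · rcases twisted_bruhat hK g.2 with ⟨t, u, v, y, h⟩ | ⟨t, u, v, y, t', u', v', h⟩
    · exact Or.inl (mem_B1.2 (h ▸ borelElt_mem t u v y))
    · refine Or.inr ⟨⟨reeU m t u v, reeU_mem m t u v⟩, hposU t u v, mem_B1.2 ?_⟩
      show (reeU m t u v * n0)⁻¹ * (g : GL chevG2.Idx K) ∈ _
      rw [h, mul_inv_rev, n0_inv, show n0 * (reeU m t u v)⁻¹ *
        (reeU m t u v * hy m y * n0 * reeU m t' u' v') = (n0 * hy m y * n0) * reeU m t' u' v' by group,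
        n0_hy]
      exact mul_mem (diag_le_borel (hy_mem_diag m _)) (pos_le_borel (reeU_mem_pos m _ _ _))
  · rw [C2.posUnipotent_eq]; exact hu
  · rw [w0_inv] at h
    exact mem_B1.1 h

end Ree

section Suzuki

open Cfsg.Agent.Lib.LieTwisted.Suzuki

theorem nonempty_rankOne_suzuki {F : Type*} [Field F] [Fintype F] {m : ℕ} (h : IsSzField F m)
    (hm : 1 ≤ m) [Fact (Nat.Prime 2)] :
    ∃ B : Subgroup (Cfsg.Sz F m), Nonempty (RankOneData 2 B) := by
  classical
  obtain ⟨P, hP⟩ := h.exists_sylow hm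
  set B := MulAction.stabilizer (Cfsg.Sz F m) (Cfsg.suzukiPointInfinity F)
  have hU : unip h ≤ B := by
    rintro _ ⟨a, b, rfl⟩
    rw [MulAction.mem_stabilizer_iff, ← opt_none (m := m)]
    exact h.uS_smul_none a b
  refine ⟨B, ⟨({
    U := unip h
    U_le := hU
    U_ne := fun hbot => ?_
    p_group := hP ▸ P.isPGroup'
    pel := fun g hg hk => ?_
    w := wS h
    w_not_mem := fun hw => ?_
    bruhat := fun g => ?_
    free := ?_ })⟩⟩
  · have h1 := h.uS_mem 1 0
    rw [hbot, Subgroup.mem_bot, ← h.uS_zero] at h1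
    exact one_ne_zero (h.uS_coords_inj h1).1
  · obtain ⟨k, hk⟩ := hk
    have hQ : IsPGroup 2 (Subgroup.zpowers g) := by
      rintro ⟨x, hx⟩
      obtain ⟨n, rfl⟩ := Subgroup.mem_zpowers_iff.1 hx
      exact ⟨k, Subtype.ext (by
        show (g ^ n) ^ 2 ^ k = 1
        rw [← zpow_natCast, ← zpow_mul, mul_comm, zpow_mul, zpow_natCast, hk, one_zpow])⟩
    rw [← hP]
    have hle : Subgroup.zpowers g ≤ Subgroup.normalizer ((P : Subgroup (Cfsg.Sz F m)) : Set _) := by
      rw [Subgroup.zpowers_le, hP, h.normalizer_unip hm]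
      exact hg
    exact ((inf_eq_left.2 hle).symm.trans (hQ.inf_normalizer_sylow P)).le.trans inf_le_right
      (Subgroup.mem_zpowers g)
  · rw [MulAction.mem_stabilizer_iff, ← opt_none (m := m), h.wS_smul_none] at hw
    exact absurd (opt_injective hw) (by simp)
  · obtain ⟨p, hp⟩ := h.exists_opt_eq_smul hm g
    cases p with
    | none =>
      left
      rw [MulAction.mem_stabilizer_iff, ← opt_none (m := m)]
      exact hp
    | some q =>
      refine Or.inr ⟨uS h q.1 q.2, h.uS_mem _ _, ?_⟩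
      rw [MulAction.mem_stabilizer_iff, ← opt_none (m := m), mul_smul, hp, inv_smul_eq_iff,
        mul_smul, h.wS_smul_none, h.uS_smul_zero]
  · rintro _ ⟨a, b, rfl⟩ hu
    rw [MulAction.mem_stabilizer_iff, ← opt_none (m := m), mul_smul, mul_smul, inv_smul_eq_iff,
      h.wS_smul_none, h.uS_smul_zero] at hu
    obtain ⟨rfl, rfl⟩ := Prod.ext_iff.1 (Option.some.inj (opt_injective hu))
    exact h.uS_zero

end Suzuki

/-- In the simple group of order 504 a Sylow 3-normaliser is maximal. -/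
theorem geom_504 [Fact (Nat.Prime 3)] {G : Type*} [Group G] [Finite G] [IsSimpleGroup G]
    (h : Nat.card G = 504)
    (hR : Cfsg.IsLieRankOneChar 3 G) : Geom 3 G := by
  obtain ⟨P⟩ : Nonempty (Sylow 3 G) := inferInstance
  refine ⟨P, {⊤}, atoms_of_isCoatom ⟨fun e => ?_, fun M hM => ?_⟩, Or.inl hR⟩
  · have h18 := (SmallGroups.Order504.sylow3_facts h P).2.2.1
    rw [e, Subgroup.card_top, h] at h18
    omega
  obtain ⟨-, hP, hN, -⟩ := SmallGroups.Order504.sylow3_facts h P
  by_contra hne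
  have h8 := SmallGroups.Order504.eight_le_index h hne
  have hmul := M.card_mul_index
  rw [h] at hmul
  have hd := Subgroup.card_dvd_of_le hM.le
  rw [hN] at hd
  have hlt : Nat.card (Subgroup.normalizer ((P : Subgroup G) : Set G)) < Nat.card M :=
    lt_of_not_ge fun hge => hM.ne (Subgroup.eq_of_le_of_card_ge hM.le hge)
  rw [hN] at hlt
  have h63 : Nat.card M ≤ 63 := by
    have := Nat.mul_le_mul_left (Nat.card M) h8
    omega
  have hdvd : Nat.card M ∣ 504 := Dvd.intro _ hmul
  have h36 : Nat.card M = 36 := by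
    obtain ⟨c, hc⟩ := hd
    have : c ≤ 3 := by omega
    rw [hc] at hmul
    interval_cases c <;> omega
  -- a normal 3-subgroup of `M`
  have hcore : Cfsg.pCore 3 M ≠ ⊥ := fun hbot => by
    refine false_of_sylow_count hbot (k := 2) (by rw [h36]; norm_num) ?_
    have h1 := SmallGroups.Sylow.card_sylow_dvd (G := M) (p := 3) (a := 2) (m := 4)
      (by rw [h36]; norm_num) (by norm_num)
    have := Nat.le_of_dvd (by norm_num) h1
    interval_cases (Nat.card (Sylow 3 M)) <;> norm_num [Nat.factorial]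
  obtain ⟨Q, hQn, hQp, hQne⟩ : ∃ Q : Subgroup M, Q.Normal ∧ IsPGroup 3 Q ∧ Q ≠ ⊥ := by
    by_contra hc
    push Not at hc
    exact hcore (eq_bot_iff.2 (sSup_le fun Q ⟨hQn, hQp⟩ => (hc Q hQn hQp).le))
  have hPM : (P : Subgroup G) ≤ M := Subgroup.le_normalizer.trans hM.le
  have hQ9 : Nat.card Q ∣ 9 := by
    obtain ⟨S, hS⟩ := hQp.exists_le_sylow
    have h9 : Nat.card (S : Subgroup M) = 9 := by
      simpa using SmallGroups.Sylow.card_sylow_eq S (a := 2) (m := 4) (by rw [h36]; norm_num) (by norm_num)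
    exact h9 ▸ Subgroup.card_dvd_of_le hS
  obtain ⟨j, hj, hQj⟩ := (Nat.dvd_prime_pow Nat.prime_three).1 (show Nat.card Q ∣ 3 ^ 2 from hQ9)
  interval_cases j
  · exact hQne (Subgroup.card_eq_one.1 (by rw [hQj]; norm_num))
  · obtain ⟨⟨x, hxQ⟩, hx⟩ : ∃ x : Q, x ≠ 1 := by
      haveI : Nontrivial Q := Finite.one_lt_card_iff_nontrivial.1 (by rw [hQj]; norm_num)
      exact exists_ne 1
    have hord : orderOf ((x : M) : G) = 3 := by
      rw [Subgroup.orderOf_coe, ← Subgroup.orderOf_mk x hxQ]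
      exact orderOf_eq_prime (by
        have := pow_card_eq_one' (x := (⟨x, hxQ⟩ : Q))
        rwa [hQj, pow_one] at this) hx
    have hC := SmallGroups.Order504.centralizer3 h hord
    -- the conjugates of `x` lie among the two nontrivial elements of `Q`
    have horb : Nat.card (MulAction.orbit (ConjAct M) x) ≤ 2 := by
      have hsub : MulAction.orbit (ConjAct M) x ⊆ (Q : Set M) \ {1} := by
        rintro _ ⟨c, rfl⟩
        refine ⟨show c • x ∈ Q by rw [ConjAct.smul_def]; exact hQn.conj_mem x hxQ _, fun e => hx (Subtype.ext ?_)⟩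
        rw [Set.mem_singleton_iff] at e
        exact (MulAction.injective c) (e.trans (smul_one c).symm)
      rw [Nat.card_coe_set_eq]
      refine (Set.ncard_le_ncard hsub).trans ?_
      rw [Set.ncard_diff_singleton_of_mem (one_mem Q), ← Nat.card_coe_set_eq, SetLike.coe_sort_coe, hQj]
      norm_num
    have hstab : Nat.card (MulAction.stabilizer (ConjAct M) x) ≤ 9 := by
      rw [← hC]
      refine Nat.card_le_card_of_injective (fun c => ⟨((ConjAct.ofConjAct c.1 : M) : G), ?_⟩) ?_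
      · have e := MulAction.mem_stabilizer_iff.1 c.2
        rw [ConjAct.smul_def, mul_inv_eq_iff_eq_mul] at e
        exact Subgroup.mem_centralizer_singleton_iff.2 (by simpa using congrArg (fun y : M => (y : G)) e)
      · intro c d e
        exact Subtype.ext (ConjAct.ofConjAct.injective (Subtype.ext (congrArg Subtype.val e :)))
    have h1 := Nat.card_congr (MulAction.orbitProdStabilizerEquivGroup (ConjAct M) x)
    rw [Nat.card_prod, show Nat.card (ConjAct M) = 36 from h36] at h1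
    have := Nat.mul_le_mul horb hstab
    omega
  · obtain ⟨S, hS⟩ := hQp.exists_le_sylow
    have h9 : Nat.card (S : Subgroup M) = 9 := by
      simpa using SmallGroups.Sylow.card_sylow_eq S (a := 2) (m := 4) (by rw [h36]; norm_num) (by norm_num)
    have hQS : Q = S := Subgroup.eq_of_le_of_card_ge hS (by rw [h9, hQj]; norm_num)
    haveI : (S : Subgroup M).Normal := hQS ▸ hQn
    have hPS : P.subtype hPM = S := by
      obtain ⟨g, hg⟩ := MulAction.exists_smul_eq M S (P.subtype hPM)
      rw [← hg]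
      exact Sylow.smul_eq_of_normal
    have hn : ((P.subtype hPM : Sylow 3 M) : Subgroup M).Normal := hPS ▸ ‹_›
    rw [Sylow.coe_subtype] at hn
    have := (Subgroup.normal_subgroupOf_iff_le_normalizer hPM).1 hn
    exact hM.not_ge this

end Cfsg.Agent.Lib.PMinLie
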