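import Cfsg.Agent.Lib.LieChambers.TitsOvergroup
import Cfsg.Agent.Lib.PMinLie.Cert

/-!
The two overgroups of a Sylow 2-subgroup of the Tits group are not twins: only one of them normalises a
subgroup containing the squares of the Sylow subgroup.
-/

set_option autoImplicit false
set_option maxRecDepth 20000
set_option maxHeartbeats 1000000
set_option linter.style.haveILetI false

open Cfsg.Lie Cfsg.Agent.Lib.ChevStructure
open scoped MatrixGroups Pointwise

namespace Cfsg.Agent.Lib.PMinLie.TitsTwo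

open Cfsg.Agent.Lib.TwistedF4Two Cfsg.Agent.Lib.TwistedF4Two.Mat
  Cfsg.Agent.Lib.TwistedF4Two.Bruhat Cfsg.Agent.Lib.TwistedF4Two.Cells
  Cfsg.Agent.Lib.LAEven56.TitsWords Cfsg.Agent.Lib.LieChambers.TitsCert

/-- A word in negative roots with a nontrivial matrix lies outside the unipotent subgroup. -/
theorem not_mem_U12 {L : List ℕ} (hneg : ∀ r ∈ L, r < 24)
    (hne : ((List.range 2704).any fun i => (code L).testBit i != oneB.testBit i) = true) :
    el L ∉ U12 := by
  intro h3
  rw [List.any_eq_true] at hne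
  obtain ⟨i, hi, hne⟩ := hne
  have hlt : ∀ r ∈ L, r < 48 := fun r hr => lt_trans (hneg r hr) (by norm_num)
  have h4 : el L ∈ CF.US (ZMod 2) CF.Neg := Main.el_mem_US fun r hr => ⟨hlt r hr, by
    show 2 * r < 48
    have := hneg r hr
    omega⟩
  have h5 : el L = 1 := by
    rw [← Subgroup.mem_bot, ← CF.borel_inf_negUS]
    exact Subgroup.mem_inf.2 ⟨CF.posUS_le_borel (Main.U12_le_pos h3), h4⟩
  have h6 := toFin_el (w := L) (List.all_eq_true.2 fun r hr => decide_eq_true (hlt r hr))
  rw [h5, Units.val_one, LieTwisted.SparseRoot.toFin_one] at h6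
  replace h6 : bM oneB = bM (code L) := bM_oneB.trans h6
  rw [List.mem_range] at hi
  have h7 := congrFun (congrFun h6 ⟨i / 52, by omega⟩) ⟨i % 52, Nat.mod_lt _ (by norm_num)⟩
  simp only [bM, Matrix.of_apply, Nat.div_add_mod] at h7
  revert hne h7
  cases (code L).testBit i <;> cases oneB.testBit i <;> simp [bit2]

theorem out_ok : ((List.range 2704).any fun i => (code [14, 23]).testBit i != oneB.testBit i) = true ∧
    ((List.range 2704).any fun i => (code [19, 17]).testBit i != oneB.testBit i) = true := by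
  decide +kernel

theorem sE_inv {i : ℕ} (hi : i < 2) : (Main.sE i)⁻¹ = Main.sE i := by
  have hc := List.all_eq_true.1 rankCert_true i (List.mem_range.2 hi)
  simp only [Bool.and_eq_true, List.all_eq_true, Bool.or_eq_true, List.contains_iff_mem] at hc
  refine inv_eq_of_mul_eq_one_right ?_
  rw [Main.sE, ← el_append, el_eq hc.1.1.1.2, el_nil]

theorem out_zero : Main.sE 0 * hE 0 * (Main.sE 0)⁻¹ ∉ U12 := by
  have hb := Main.baseCert_true
  simp only [Main.baseCert, Bool.and_eq_true] at hb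
  have e := el_eq hb.1.1.1.1.1.1.1
  rw [el_append, el_append, el_hword] at e
  rw [sE_inv (by norm_num), show Main.sE 0 * hE 0 * Main.sE 0 = el (sw 0) * hP [0] * el (sw 0) by
    simp [hP, Main.sE], ← e]
  exact not_mem_U12 (by decide) out_ok.1

theorem out_one : Main.sE 1 * hE 2 * (Main.sE 1)⁻¹ ∉ U12 := by
  have hb := Main.baseCert_true
  simp only [Main.baseCert, Bool.and_eq_true] at hb
  have e := el_eq hb.1.1.1.1.1.2
  rw [el_append, el_append, el_hword] at e
  rw [sE_inv (by norm_num), show Main.sE 1 * hE 2 * Main.sE 1 = el (sw 1) * hP [2] * el (sw 1) by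
    simp [hP, Main.sE], ← e]
  exact not_mem_U12 (by decide) out_ok.2

theorem UG_le (j : ℕ) : UG (rI j) ≤ U12 := by
  refine UG_mono ?_
  rcases j with _ | j
  · show ∀ k ∈ rI 0, k ∈ List.range 12; decide
  · show ∀ k ∈ rI 1, k ∈ List.range 12; decide

theorem hh_two : hE 1 * hE 1 = hE 2 := by
  have hr := Main.relCert_true
  simp only [Main.relCert, Bool.and_eq_true] at hr
  have e := el_eq hr.1.2
  rw [el_append] at e
  exact e

theorem hh_zero : hE 0 ^ 2 = 1 := by
  have hr := Main.relCert_true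
  simp only [Main.relCert, Bool.and_eq_true] at hr
  have e := el_eq hr.1.1.1
  rw [el_append, el_nil] at e
  rw [pow_two]
  exact e

theorem conj_mem_UG {j : ℕ} (hj : j < 2) {g : GL chevF4.Idx (ZMod 2)}
    (hg : g ∈ U12 ∨ g = Main.sE j) {r : GL chevF4.Idx (ZMod 2)} (hr : r ∈ UG (rI j)) :
    g * r * g⁻¹ ∈ UG (rI j) := by
  refine (Subgroup.mem_normalizer_iff.1 ?_ r).1 hr
  rcases hg with hg | rfl
  · exact (mem_normalizer_UG hj).1 g hg
  · exact (mem_normalizer_UG hj).2

/-- The squares of the unipotent subgroup lie in the radical of index two. -/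
theorem sq_mem {u : GL chevF4.Idx (ZMod 2)} (hu : u ∈ U12) : u * u ∈ UG (rI 0) := by
  have ha : hE 0 ∈ U12 := hE_mem (by decide)
  have hle : U12 ≤ Subgroup.zpowers (hE 0) ⊔ UG (rI 0) := by
    refine (Subgroup.closure_le _).2 ?_
    rintro g ⟨k, hk, rfl⟩
    by_cases h : k = 0
    · rw [h]; exact Subgroup.mem_sup_left (Subgroup.mem_zpowers _)
    · refine Subgroup.mem_sup_right (hE_mem ?_)
      have hk' := List.mem_range.1 hk
      show k ∈ [1, 2, 3, 4, 5, 6, 7, 8, 9, 10, 11]
      simp only [List.mem_cons, List.not_mem_nil, or_false]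
      omega
  obtain ⟨i, hi, r, hr, rfl⟩ := split (n := 2) two_pos (hh_zero ▸ one_mem _)
    (fun r hr => conj_mem_UG (by norm_num) (Or.inl ha) hr) (hle hu)
  rcases (show i = 0 ∨ i = 1 by omega) with rfl | rfl
  · rw [pow_zero, one_mul]; exact mul_mem hr hr
  · rw [pow_one]
    have hinv : (hE 0)⁻¹ = hE 0 := inv_eq_of_mul_eq_one_right (by rw [← pow_two]; exact hh_zero)
    have h1 := mul_mem (conj_mem_UG (j := 0) (by norm_num) (Or.inl ha) hr) hr
    rw [hinv] at h1
    simpa [mul_assoc] using h1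

theorem hQle [Fact (Nat.Prime 2)] (i : Fin 2) : Q i ≤ (P₀ : Subgroup TitsGroup) :=
  fun _ hx => mem_P₀.2 (UG_le _ hx)

theorem cert_apply [Fact (Nat.Prime 2)] :
      Subgroup.normalizer ((P₀ : Subgroup TitsGroup) : Set TitsGroup) = P₀ ∧
        Atoms (P₀ : Subgroup TitsGroup) {certAtom P₀ (rE 0), certAtom P₀ (rE 1)} ∧
        (∀ i j, i ≠ j → certAtom P₀ (rE j) ≤ Subgroup.normalizer (Q i : Set TitsGroup)) ∧
        certAtom P₀ (rE 0) ≠ certAtom P₀ (rE 1) ∧
        ∀ i, rE i ∉ Subgroup.normalizer ((P₀ : Subgroup TitsGroup) : Set TitsGroup) := by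
  have hk2 : InK (hE 2) := ⟨hE_mem' (by norm_num), phi_hE' 2 (by norm_num)⟩
  have hk0 : InK (hE 0) := ⟨hE_mem' (by norm_num), phi_hE' 0 (by norm_num)⟩
  refine atoms_cert P₀ (fun c : Fin 16 × Bool => mk (cE c) (inK_cE c)) cover rE Q hQle (fun i => ?_)
    (fun i x hx => mem_normalizer_Q ((mem_normalizer_UG (oth_lt i)).1 _ (mem_P₀.1 hx)))
    (fun i j hij => mem_normalizer_Q ?_) (fun c => ?_) (fun c => ?_)
  · fin_cases i
    · refine ⟨mk (hE 0) hk0, show hE 0 ∈ UG (rI 1) from hE_mem (by decide), fun h => out_zero ?_⟩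
      have h' := mem_P₀.1 h
      rw [map_mul, map_mul, map_inv] at h'
      exact h'
    · refine ⟨mk (hE 2) hk2, show hE 2 ∈ UG (rI 0) from hE_mem (by decide), fun h => out_one ?_⟩
      have h' := mem_P₀.1 h
      rw [map_mul, map_mul, map_inv] at h'
      exact h'
  · have e : j.val = oth i := by revert hij; fin_cases i <;> fin_cases j <;> decide
    show Main.sE j.val ∈ _
    rw [e]
    exact (mem_normalizer_UG (oth_lt i)).2
  · by_cases hc : ∀ i : Fin 2, (dichT.getD (cnum c) []).getD i.val none = none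
    · left
      have hww : Data.wWords.getD c.1.val [] = [] := by
        have h0 := dichOK_true c 0
        have h1 := dichOK_true c 1
        simp only [dichOK, hc 0, hc 1, decide_eq_true_eq] at h0 h1
        rcases h0 with h0 | h0
        · exact h0
        rcases h1 with h1 | h1
        · exact h1
        rw [h0] at h1
        exact absurd h1 (by decide)
      have hw : Main.wE c.1.val = 1 := by rw [Main.wE, ww, hww]; rfl
      refine mem_P₀.2 ?_
      rw [val_mk]
      obtain ⟨k, b⟩ := c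
      cases b
      · rw [cE_false, hw]; exact one_mem _
      · rw [cE_true, hw, mul_one, hh_two]; exact hE_mem (by decide)
    · right
      push Not at hc
      obtain ⟨i, hi⟩ := hc
      have h := dichOK_true c i
      unfold dichOK at h
      split at h
      · rename_i heq; exact absurd heq hi
      · refine ⟨i, wordOK_spec (fun x hx => Subgroup.subset_closure (Or.inr hx)) ?_ h rfl⟩
        intro w hw
        rw [List.mem_singleton] at hw
        subst hw
        exact ⟨_, Subgroup.subset_closure (Or.inl rfl), rfl⟩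
  · refine wordOK_spec (fun x hx => Subgroup.subset_closure (Or.inl hx)) ?_ (gen_ok c) rfl
    intro w hw
    simp only [List.mem_cons, List.not_mem_nil, or_false] at hw
    rcases hw with rfl | rfl
    · exact ⟨rE 0, Subgroup.subset_closure (Or.inr ⟨0, rfl⟩), rfl⟩
    · exact ⟨rE 1, Subgroup.subset_closure (Or.inr ⟨1, rfl⟩), rfl⟩

theorem geom_tits [Fact (Nat.Prime 2)] {K : Type*} [Group K] [Finite K] (h : Cfsg.Lie.IsoTits K) :
    Geom 2 K := by
  obtain ⟨e⟩ := h
  obtain ⟨hN, hA, hle, -, hrP⟩ := cert_apply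
  refine geom_of_two P₀ hN hA ?_ e
  rintro ⟨α, hαP, hαA⟩
  have h1 : certAtom P₀ (rE 1) ≤ Subgroup.normalizer ((α • Q 1 : Subgroup TitsGroup) : Set TitsGroup) := by
    rw [← hαA, ← smul_normalizer]
    exact (Subgroup.pointwise_smul_le_pointwise_smul_iff).2 (hle 1 0 (by decide))
  have h3 : InK (hE 1 * hE 3) := by
    refine ⟨mul_mem (hE_mem' (by norm_num)) (hE_mem' (by norm_num)), ?_⟩
    rw [phi_mul (hE_mem' (by norm_num)) (hE_mem' (by norm_num)), phi_hE' 1 (by norm_num),
      phi_hE' 3 (by norm_num)]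
    simpa [Main.isA] using alpha_sq
  have h1U : hE 1 ∈ U12 := hE_mem (by decide)
  have h3R : hE 3 ∈ UG (rI 1) := hE_mem (by decide)
  obtain ⟨x, hxv⟩ : ∃ x : TitsGroup, val x = hE 1 * hE 3 :=
    ⟨mk (hE 1 * hE 3) h3, val_mk (hE 1 * hE 3) h3⟩
  have hx : x ∈ (P₀ : Subgroup TitsGroup) := mem_P₀.2 (hxv.symm ▸ mul_mem h1U (UG_le _ h3R))
  have hy : α⁻¹ • x ∈ (P₀ : Subgroup TitsGroup) := by
    rw [← Subgroup.mem_pointwise_smul_iff_inv_smul_mem, hαP]
    exact hx
  have hsq : x * x ∈ (α • Q 1 : Subgroup TitsGroup) := by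
    rw [Subgroup.mem_pointwise_smul_iff_inv_smul_mem, smul_mul']
    show val (α⁻¹ • x * α⁻¹ • x) ∈ UG (rI 0)
    rw [map_mul]
    exact sq_mem (mem_P₀.1 hy)
  have hconj := (Subgroup.mem_normalizer_iff.1 (h1 (Subgroup.subset_closure (Or.inl rfl))) (x * x)).1 hsq
  have hP : (α • Q 1 : Subgroup TitsGroup) ≤ (P₀ : Subgroup TitsGroup) :=
    ((Subgroup.pointwise_smul_le_pointwise_smul_iff).2 (hQle 1)).trans hαP.le
  have hU := mem_P₀.1 (hP hconj)
  rw [map_mul, map_mul, map_inv, map_mul, hxv,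
    show val (rE 1) = Main.sE 1 from val_mk (Main.sE 1) ⟨Main.sE_mem _, phi_sE _⟩] at hU
  set r := (hE 1)⁻¹ * hE 3 * hE 1 * hE 3 with hr
  have hrR : r ∈ UG (rI 1) := by
    refine mul_mem ?_ h3R
    simpa using conj_mem_UG (j := 1) (by norm_num) (Or.inl (inv_mem h1U)) h3R
  have hrU := UG_le _ (conj_mem_UG (j := 1) (by norm_num) (Or.inr rfl) hrR)
  refine out_one ?_
  have e2 : Main.sE 1 * hE 2 * (Main.sE 1)⁻¹ =
      Main.sE 1 * (hE 1 * hE 3 * (hE 1 * hE 3)) * (Main.sE 1)⁻¹ * (Main.sE 1 * r * (Main.sE 1)⁻¹)⁻¹ := by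
    rw [← hh_two, hr]
    group
  rw [e2]
  exact mul_mem hU (inv_mem hrU)

end Cfsg.Agent.Lib.PMinLie.TitsTwo
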