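import Cfsg.Agent.Lib.LieChambers.U33Overgroup
import Cfsg.Agent.Lib.PMinLie.Cert
import Cfsg.Agent.Lib.PMinLie.Geom

/-!
The two overgroups of a Sylow 2-subgroup of `SU₃(3)` are not twins: one has an abelian radical.
-/

set_option autoImplicit false
set_option maxRecDepth 100000
set_option maxHeartbeats 1000000
set_option linter.style.haveILetI false

namespace Cfsg.Agent.Lib.PMinLie.U33

open Cfsg.Agent.Lib.U33
open Cfsg.Agent.Lib.LieChambers.U33Cert
open scoped Pointwise

/-- the index of a radical as a Boolean -/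
def bi : Fin 2 → Bool
  | ⟨0, _⟩ => false
  | _ => true

theorem refl_ok : [false, true].all (fun i => normOK i (r (!i))) = true := by decide +kernel

theorem move_ok : [false, true].all (fun i => (qL i).any fun a => (List.range 6048).any fun y =>
    eqOK (r i) (u a) y (r i) && !uL.any (Nat.beq y)) = true := by
  decide +kernel

theorem dich_ok' : allLt cL.length (fun k => uL.any (Nat.beq (cI k)) || [false, true].any fun i =>
    match (dichL i).getD k none with
    | none => false
    | some l => reaches (uL ++ [cI k]) l (r i)) = true := by decide +kernel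

theorem comm_ok : ((qL false).all fun a => (qL false).all fun b => eqOK (u a) (u b) (u b) (u a)) = true ∧
    ((qL true).any fun a => (qL true).any fun b => !Nat.beq (umul a b) (umul b a)) = true := by
  decide +kernel

theorem q_sub_ok : ∀ i, ((qL i).all fun a => (qL i).all fun b =>
    (qL i).any (Nat.beq (umul a b))) = true ∧ (0 : Nat) ∈ qL i ∧ (qL i).Nodup ∧ (qL i).length = 16 := by
  decide +kernel

theorem u_inj {a b : Nat} (ha : a < 32) (hb : b < 32) (h : gN (u a) = gN (u b)) : a = b := by
  have hlt : ∀ a, a < 32 → u a < 6048 ∧ ∀ b, b < a → u b ≠ u a := fun a ha => by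
    have h := allLt_spec u_lt ha
    simp only [Bool.and_eq_true, Nat.blt_eq] at h
    refine ⟨h.1, fun b hb e => ?_⟩
    have h2 := allLt_spec h.2 hb
    simp [e] at h2
  have he := gN_inj (hlt a ha).1 (hlt b hb).1 h
  rcases Nat.lt_trichotomy a b with h' | h' | h'
  · exact absurd he ((hlt b hb).2 a h')
  · exact h'
  · exact absurd he.symm ((hlt a ha).2 b h')

theorem q_lt (i : Bool) {a : Nat} (ha : a ∈ qL i) : a < 32 := by
  have h := q_ok i
  simp only [Bool.and_eq_true, List.all_eq_true, Nat.blt_eq] at h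
  exact h.1.1 a ha

theorem umul_spec {a b : Nat} (ha : a < 32) (hb : b < 32) :
    umul a b < 32 ∧ gN (u a) * gN (u b) = gN (u (umul a b)) := by
  have h := allLt_spec (allLt_spec u_mul ha) hb
  simp only [Bool.and_eq_true, Nat.blt_eq] at h
  exact ⟨h.1, prodOK_spec h.2⟩

/-- the elements of a radical -/
def qElems (i : Bool) : List G := (qL i).map fun a => gN (u a)

theorem qElems_one (i : Bool) : (1 : G) ∈ qElems i :=
  List.mem_map.2 ⟨0, (q_sub_ok i).2.1, by rw [u_len.2]; exact el_one⟩

theorem qElems_mul (i : Bool) : ∀ x ∈ qElems i, ∀ y ∈ qElems i, x * y ∈ qElems i := by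
  intro x hx y hy
  simp only [qElems, List.mem_map] at hx hy ⊢
  obtain ⟨a, ha, rfl⟩ := hx
  obtain ⟨b, hb, rfl⟩ := hy
  have h := (q_sub_ok i).1
  simp only [List.all_eq_true, List.any_eq_true, Nat.beq_eq] at h
  obtain ⟨c, hc, e⟩ := h a ha b hb
  exact ⟨c, hc, by rw [(umul_spec (q_lt i ha) (q_lt i hb)).2, e]⟩

theorem Q_eq (i : Bool) : Q i = listSub (qElems i) (qElems_one i) (qElems_mul i) := by
  refine le_antisymm ((Subgroup.closure_le _).2 ?_) fun x hx => Subgroup.subset_closure ?_
  · rintro _ ⟨a, ha, rfl⟩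
    exact List.mem_map.2 ⟨a, ha, rfl⟩
  · obtain ⟨a, ha, e⟩ := List.mem_map.1 (show x ∈ qElems i from hx)
    exact ⟨a, ha, e⟩

theorem card_Q (i : Bool) : Nat.card (Q i) = 16 := by
  rw [Q_eq, card_listSub, qElems, List.length_map, (q_sub_ok i).2.2.2]
  exact (q_sub_ok i).2.2.1.map_on fun a ha b hb h => u_inj (q_lt i ha) (q_lt i hb) h

theorem Q_le_U (i : Bool) : Q i ≤ U := by
  rw [Q, Subgroup.closure_le]
  rintro _ ⟨a, ha, rfl⟩
  exact mem_U.2 ⟨⟨a, q_lt i ha⟩, rfl⟩

theorem geom_U33 [Fact (Nat.Prime 2)] {K : Type*} [Group K] [Finite K] (e : K ≃* U33.G) : Geom 2 K := by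
  have hboth : ∀ {f : Bool → Bool}, [false, true].all f = true → ∀ i, f i = true := fun {f} h i => by
    rw [List.all_eq_true] at h
    exact h i (by cases i <;> simp)
  have hrefl : ∀ i, gN (r (!i)) ∈ Subgroup.normalizer (Q i : Set U33.G) := fun i =>
    normOK_spec (hboth refl_ok i)
  have hbi : ∀ i j : Fin 2, i ≠ j → bi j = !bi i := by decide
  obtain ⟨hN, hA, hle, -, hrP⟩ :
      Subgroup.normalizer ((P₀ : Subgroup U33.G) : Set U33.G) = P₀ ∧
        Atoms (P₀ : Subgroup U33.G) {certAtom P₀ (gN (r false)), certAtom P₀ (gN (r true))} ∧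
        (∀ i j : Fin 2, i ≠ j → certAtom P₀ (gN (r (bi j))) ≤ Subgroup.normalizer (Q (bi i) : Set U33.G)) ∧
        certAtom P₀ (gN (r false)) ≠ certAtom P₀ (gN (r true)) ∧
        ∀ i : Fin 2, gN (r (bi i)) ∉ Subgroup.normalizer ((P₀ : Subgroup U33.G) : Set U33.G) := by
    refine atoms_cert P₀ (fun k : Fin cL.length => gN (cI k.val)) (fun g => cover g)
      (fun i => gN (r (bi i))) (fun i => Q (bi i)) (fun i x hx => mem_P₀.2 (Q_le_U _ hx)) (fun i => ?_)
      (fun i x hx => ?_) (fun i j hij => by rw [hbi i j hij]; exact hrefl (bi i))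
      (fun k => ?_) (fun k => ?_)
    · have h := hboth move_ok (bi i)
      simp only [List.any_eq_true, Bool.and_eq_true, Bool.not_eq_true', List.mem_range] at h
      obtain ⟨a, ha, y, hy, he, hout⟩ := h
      refine ⟨gN (u a), Subgroup.subset_closure ⟨a, ha, rfl⟩, fun h1 => ?_⟩
      rw [eqOK_spec he, mul_inv_cancel_right, mem_P₀] at h1
      obtain ⟨b, hb⟩ := mem_U.1 h1
      have hlt := allLt_spec u_lt b.2
      simp only [Bool.and_eq_true, Nat.blt_eq] at hlt
      rw [← gN_inj hlt.1 hy hb] at hout
      simp only [List.any_eq_false, Nat.beq_eq] at hout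
      refine hout (u b.val) ?_ rfl
      rw [u, List.getD_eq_getElem _ _ (u_len.1.symm ▸ b.2)]
      exact List.getElem_mem _
    · have hq := q_ok (bi i)
      simp only [Bool.and_eq_true, List.all_eq_true] at hq
      obtain ⟨a, rfl⟩ := mem_U.1 hx
      refine normOK_spec (hq.2 _ ?_)
      rw [u, List.getD_eq_getElem _ _ (u_len.1.symm ▸ a.2)]
      exact List.getElem_mem _
    · have h := allLt_spec dich_ok' k.2
      simp only [Bool.or_eq_true, List.any_eq_true, Nat.beq_eq] at h
      rcases h with ⟨y, hy, e⟩ | ⟨i, -, h⟩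
      · exact Or.inl (mem_P₀.2 (e ▸ pool_U hy))
      · obtain ⟨j, rfl⟩ : ∃ j, bi j = i := by cases i; exacts [⟨0, rfl⟩, ⟨1, rfl⟩]
        cases hd : (dichL (bi j)).getD k.val none with
        | none => rw [hd] at h; simp at h
        | some l =>
          rw [hd] at h
          refine Or.inr ⟨j, reaches_spec (fun x hx => ?_) h⟩
          rcases List.mem_append.1 hx with hx | hx
          · exact Subgroup.subset_closure (Or.inr (pool_U hx))
          · rw [List.mem_singleton] at hx
            exact Subgroup.subset_closure (Or.inl (by rw [hx]))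
    · refine reaches_spec (fun x hx => ?_) (allLt_spec gens_ok k.2)
      rcases List.mem_append.1 hx with hx | hx
      · exact Subgroup.subset_closure (Or.inl (pool_U hx))
      · simp only [List.mem_cons, List.not_mem_nil, or_false] at hx
        rcases hx with rfl | rfl
        · exact Subgroup.subset_closure (Or.inr ⟨0, rfl⟩)
        · exact Subgroup.subset_closure (Or.inr ⟨1, rfl⟩)
  have hnot : ¬ Twins (P₀ : Subgroup U33.G) (certAtom P₀ (gN (r true))) (certAtom P₀ (gN (r false))) := by
    rintro ⟨α, hαP, hαA⟩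
    -- the image of the abelian radical is normalised by the other overgroup
    have h1 : certAtom P₀ (gN (r false)) ≤ Subgroup.normalizer ((α • Q false : Subgroup U33.G) : Set U33.G) := by
      rw [← hαA, ← smul_normalizer]
      exact (Subgroup.pointwise_smul_le_pointwise_smul_iff).2 (hle 0 1 (by decide))
    have h2 : certAtom P₀ (gN (r false)) ≤ Subgroup.normalizer (Q true : Set U33.G) := hle 1 0 (by decide)
    have hr : gN (r false) ∈ certAtom P₀ (gN (r false)) := Subgroup.subset_closure (Or.inl rfl)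
    set X := (α • Q false : Subgroup U33.G) ⊔ Q true with hX
    have hXP : X ≤ (P₀ : Subgroup U33.G) := by
      refine sup_le ?_ (fun x hx => mem_P₀.2 (Q_le_U _ hx))
      calc (α • Q false : Subgroup U33.G) ≤ α • (P₀ : Subgroup U33.G) :=
            (Subgroup.pointwise_smul_le_pointwise_smul_iff).2 fun x hx => mem_P₀.2 (Q_le_U _ hx)
        _ = _ := hαP
    have hne : X ≠ (P₀ : Subgroup U33.G) := fun e => hrP 0 (by
      rw [← e]
      have hn : gN (r false) ∈ Subgroup.normalizer (X : Set U33.G) := by
        rw [Subgroup.mem_normalizer_iff_map_conj_eq, hX, Subgroup.map_sup,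
          Subgroup.mem_normalizer_iff_map_conj_eq.1 (h1 hr), Subgroup.mem_normalizer_iff_map_conj_eq.1 (h2 hr)]
      exact hn)
    have hcard : Nat.card X = 16 := by
      have d1 : Nat.card (Q true) ∣ Nat.card X := Subgroup.card_dvd_of_le le_sup_right
      have d2 : Nat.card X ∣ 32 := card_U ▸ Subgroup.card_dvd_of_le hXP
      rw [card_Q] at d1
      obtain ⟨c, hc⟩ := d1
      rw [hc] at d2
      have hc2 : c ≤ 2 := Nat.le_of_dvd two_pos (Nat.dvd_of_mul_dvd_mul_left (by norm_num) (show 16 * c ∣ 16 * 2 from d2))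
      interval_cases c
      · have := Nat.card_pos (α := X); omega
      · omega
      · refine absurd (Subgroup.eq_of_le_of_card_ge hXP ?_) hne
        rw [show Nat.card (P₀ : Subgroup U33.G) = 32 from card_U, hc]
    have e1 : Q true = X := Subgroup.eq_of_le_of_card_ge le_sup_right (by rw [hcard, card_Q])
    have e2 : (α • Q false : Subgroup U33.G) = X :=
      Subgroup.eq_of_le_of_card_ge le_sup_left (by rw [hcard, card_smul, card_Q])
    have hcomm : ∀ x ∈ Q true, ∀ y ∈ Q true, x * y = y * x := by
      intro x hx y hy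
      rw [e1, ← e2, Subgroup.mem_pointwise_smul_iff_inv_smul_mem, Q_eq] at hx hy
      obtain ⟨a, ha, ea⟩ := List.mem_map.1 (show (α⁻¹ • x) ∈ qElems false from hx)
      obtain ⟨b, hb, eb⟩ := List.mem_map.1 (show (α⁻¹ • y) ∈ qElems false from hy)
      have hc := comm_ok.1
      simp only [List.all_eq_true] at hc
      have := eqOK_spec (hc a ha b hb)
      rw [ea, eb, ← smul_mul', ← smul_mul'] at this
      exact MulAction.injective α⁻¹ this
    have hc := comm_ok.2
    simp only [List.any_eq_true, Bool.not_eq_true'] at hc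
    obtain ⟨a, ha, b, hb, hne'⟩ := hc
    have ha' : a < 32 := q_lt true ha
    have hb' : b < 32 := q_lt true hb
    have := hcomm _ (Subgroup.subset_closure ⟨a, ha, rfl⟩) _ (Subgroup.subset_closure ⟨b, hb, rfl⟩)
    rw [(umul_spec ha' hb').2, (umul_spec hb' ha').2] at this
    have := u_inj (umul_spec ha' hb').1 (umul_spec hb' ha').1 this
    simp [this] at hne'
  exact geom_of_two P₀ hN (Set.pair_comm (certAtom P₀ (gN (r false))) _ ▸ hA) hnot e

end Cfsg.Agent.Lib.PMinLie.U33
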