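import Cfsg.Prelude.Def_EvenType
import Cfsg.Agent.S2936
import Cfsg.Agent.Lib.PMinLie.Chev
import Cfsg.Agent.Lib.PMinLie.G2
import Cfsg.Agent.Lib.PMinLie.Classical
import Cfsg.Agent.Lib.PMinLie.PSL
import Cfsg.Agent.Lib.PMinLie.RankOne
import Cfsg.Agent.Lib.PMinLie.AltSix
import Cfsg.Agent.Lib.PMinLie.U33
import Cfsg.Agent.Lib.PMinLie.TitsTwo

/-!
All the simple groups of Lie type: the lattice above a Sylow normaliser.
-/

set_option autoImplicit false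
set_option linter.unusedSectionVars false
set_option linter.style.haveILetI false

namespace Cfsg.Agent.Lib.PMinLie

open Cfsg.Lie
open Cfsg.Agent.Lib
open Cfsg.Agent.Lib.LieChambers

theorem geom_lieType {G : Type*} [Group G] [Finite G] (p : ℕ) [hp : Fact p.Prime]
    (hG : Cfsg.IsLieTypeChar p G) : Geom p G := by
  classical
  have hG' := hG
  rcases hG with ⟨F, i1, i2, i3, n, hn, h4, ⟨e⟩⟩ | ⟨F, i1, i2, i3, m, hm, h3, ⟨e⟩⟩ |
    ⟨F, i1, i2, i3, n, q, hq, hn, hne, ⟨e⟩⟩ | ⟨F, i1, i2, i3, m, hm, hodd, ⟨e⟩⟩ |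
    ⟨F, i1, i2, i3, m, hm, ⟨e⟩⟩ | ⟨F, i1, i2, i3, m, a, b, hm, hab, ⟨e⟩⟩ |
    ⟨F, i1, i2, i3, hE⟩ | ⟨F, i1, i2, i3, q, hq, hT⟩ | ⟨rfl, hS⟩ | ⟨rfl, hF⟩ | ⟨rfl, hR⟩
  · exact PSL.geom_PSL p hn h4 e
  · exact geom_PSp p hm h3 e
  · exact geom_PSU p hq hn hne e
  · refine geom_odd p hm (fun h2 => ?_) e
    have hp2 : p = 2 := (Nat.prime_dvd_prime_iff_eq hp.out Nat.prime_two).1
      ((CharP.cast_eq_zero_iff F p 2).1 (by exact_mod_cast h2))
    obtain ⟨k, -, hk⟩ := FiniteField.card F p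
    rw [hk, hp2] at hodd
    exact absurd (Nat.even_pow.2 ⟨even_two, k.pos.ne'⟩) (Nat.not_even_iff_odd.2 hodd)
  · exact geom_plus p hm e
  · exact geom_minus p (by omega) hab e
  · have key : ∀ D : ChevalleyDatum,
        D ∈ [chevG2, chevB2, chevD4, chevF4, chevE6, chevE7, chevE8] → DegreeOK D →
        ∀ e : G ≃* ↥(D.group F), Geom p G := by
      intro D hD hd e
      obtain ⟨S⟩ := ChevStructure.nonempty_sys D hD
      exact geom_chev p S.commOK hd e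
    rcases hE with ⟨h3, ⟨e⟩⟩ | ⟨⟨e⟩⟩ | ⟨⟨e⟩⟩ | ⟨⟨e⟩⟩ | ⟨⟨e⟩⟩
    · obtain ⟨S⟩ := ChevStructure.nonempty_sys chevG2 (by simp)
      exact geom_G2 p S.commOK h3 e
    · exact key _ (by simp) degreeOK_F4 e
    · exact key _ (by simp) degreeOK_E6 e
    · exact key _ (by simp) degreeOK_E7 e
    · exact key _ (by simp) degreeOK_E8 e
  · rcases hT with ⟨hK, ⟨e⟩⟩ | ⟨hK, ⟨e⟩⟩
    · exact geom_twistedE6 p hq hK e
    · exact geom_twistedD4 p hq hK e
  · obtain ⟨F, i1, i2, m, hm, hF, ⟨e⟩⟩ := hS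
    have h : LieTwisted.Suzuki.IsSzField F m := ⟨hF⟩
    obtain ⟨B, ⟨D⟩⟩ := nonempty_rankOne_suzuki h hm
    exact geom_rankOne D (e.trans (LieTwisted.Suzuki.szEquiv h hm).symm)
      (Or.inr (Or.inr (Or.inl ⟨rfl, F, i1, i2, m, hm, hF, ⟨e⟩⟩)))
  · obtain ⟨F, i1, i2, m, -, hF', ⟨e⟩⟩ := hF
    exact geom_twistedF4 hF' e
  · obtain ⟨F, i1, i2, m, hm, hF, ⟨e⟩⟩ := hR
    obtain ⟨B, ⟨D⟩⟩ := nonempty_rankOne_ree hF
    exact geom_rankOne D e (Or.inr (Or.inr (Or.inr ⟨rfl, Or.inl ⟨F, i1, i2, m, hm, hF, ⟨e⟩⟩⟩)))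

/-- All simple groups of Lie type, with the derived groups. -/
theorem geom_chevSimple {K : Type*} [Group K] [Finite K] {p : ℕ} [Fact p.Prime]
    (hK : Cfsg.IsChevSimple p K) : Nontrivial K ∧ Geom p K := by
  rcases hK with hK | ⟨rfl, hA | ⟨F, i1, i2, hF, ⟨e⟩⟩ | hT⟩ | ⟨rfl, F, i1, i2, hF, ⟨e⟩⟩
  · haveI := isSimpleGroup_of_isLieTypeChar hK
    exact ⟨inferInstance, geom_lieType p hK⟩
  · obtain ⟨e⟩ := hA
    exact ⟨Finite.one_lt_card_iff_nontrivial.1 (by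
      rw [Nat.card_congr e.toEquiv, AltSix.card_A6]; norm_num), AltSix.geom_A6 e⟩
  · have hF' : Fintype.card F = 3 ^ 2 := by rw [hF]; norm_num
    obtain ⟨e0⟩ := S2936.exists_equiv F hF
    have hbot : Subgroup.center (Cfsg.SU 3 F 3) = ⊥ := by
      apply Subgroup.eq_bot_of_card_eq
      rw [Unitary.card_center_SU hF' (by norm_num)]
      norm_num
    let E2 : U33.G ≃* Cfsg.PSU 3 F 3 :=
      e0.trans ((QuotientGroup.quotientMulEquivOfEq hbot).trans QuotientGroup.quotientBot).symm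
    exact ⟨Finite.one_lt_card_iff_nontrivial.1 (by
      rw [Nat.card_congr (e.trans E2.symm).toEquiv, U33.card_G]; norm_num),
      U33.geom_U33 (e.trans E2.symm)⟩
  · refine ⟨?_, TitsTwo.geom_tits hT⟩
    obtain ⟨e⟩ := hT
    refine Finite.one_lt_card_iff_nontrivial.1 ?_
    rw [Nat.card_congr e.toEquiv]
    rcases LAEven56.TitsWords.card_cases with h | h <;> rw [h] <;> norm_num
  · haveI : IsSimpleGroup (Matrix.ProjectiveSpecialLinearGroup (Fin 2) F) :=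
      Linear.isSimpleGroup_PSL le_rfl fun _ => by rw [Nat.card_eq_fintype_card, hF]; norm_num
    haveI : IsSimpleGroup K := e.isSimpleGroup
    refine ⟨inferInstance, geom_504 ?_ (Or.inr (Or.inr (Or.inr ⟨rfl, Or.inr ⟨F, i1, i2, hF, ⟨e⟩⟩⟩)))⟩
    have h := Linear.gcd_mul_card_PSL_two (F := F)
    rw [hF] at h
    norm_num at h
    rw [Nat.card_congr e.toEquiv]
    exact h

end Cfsg.Agent.Lib.PMinLie
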